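import Groth.Agent.EquidimPt.Basic
import Groth.Agent.DimIneq.Basic

/-!
Dimensions of a source in terms of the target and the generic fibre.
-/

set_option autoImplicit false
universe u
open CategoryTheory AlgebraicGeometry Limits Topology TopologicalSpace

noncomputable section

namespace Groth.Agent.EquidimPt

variable {X Y : Scheme.{u}}

theorem fibreDimAt_le_topDim_fiber (f : X ⟶ Y) (x : X) :
    FlatMor.fibreDimAt f x ≤ topologicalKrullDim ↥(f.fiber (f x)) :=
  iInf_le_of_le ⟨⊤, trivial⟩ IsInducing.subtypeVal.topologicalKrullDim_le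

theorem topDim_fiber_generic (f : X ⟶ Y) [IrreducibleSpace X] {y : Y} :
    topologicalKrullDim ↥(f.fiber y) = Order.krullDim {z : X | f z = y ∧ genericPoint X ⤳ z} := by
  rw [(f.fiberHomeo y).isHomeomorph.topologicalKrullDim_eq, ← FibSemi.topDim_closure_inter_fibre_eq,
    show closure {genericPoint X} ∩ f ⁻¹' {y} = f ⁻¹' {y} from
      Set.inter_eq_right.mpr fun z _ => specializes_iff_mem_closure.mp (genericPoint_specializes z)]

theorem apply_genericPoint (f : X ⟶ Y) [IrreducibleSpace X] [IrreducibleSpace Y] (hf : DenseRange f.base) :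
    f (genericPoint X) = genericPoint Y :=
  ((genericPoint_spec X).image f.continuous).eq (by
    rw [Set.image_univ, hf.closure_range]
    exact genericPoint_spec Y)

theorem add_natCast_cancel {a b : WithBot ℕ∞} {e : ℕ} (h : a + e = b + e) : a = b := by
  cases a <;> cases b
  · rfl
  · exact absurd ((WithBot.bot_add _).symm.trans h) (WithBot.bot_ne_coe (a := _ + (e : ℕ∞)))
  · exact absurd (h.trans (WithBot.bot_add _)) (WithBot.coe_ne_bot (a := _ + (e : ℕ∞)))
  · rename_i a b
    exact congrArg _ (WithTop.add_right_cancel (ENat.natCast_ne_top e)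
      (WithBot.coe_injective (a₁ := a + (e : ℕ∞)) (a₂ := b + (e : ℕ∞)) h))

theorem le_natCast_sub {a : WithBot ℕ∞} {e m : ℕ} (h : a + e ≤ m) : a ≤ ((m - e : ℕ) : WithBot ℕ∞) := by
  cases a with
  | bot => exact bot_le
  | coe a =>
    have h' : a + (e : ℕ∞) ≤ (m : ℕ∞) := WithBot.coe_le_coe.mp h
    refine WithBot.coe_le_coe.mpr ?_
    obtain ⟨k, rfl⟩ := ENat.ne_top_iff_exists.mp (ne_top_of_le_ne_top (ENat.natCast_ne_top m)
      (le_trans le_self_add h'))
    exact ENat.natCast_le_natCast.mpr (Nat.le_sub_of_add_le (by exact_mod_cast h'))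

theorem iSup_add_le {ι : Type*} (g : ι → WithBot ℕ∞) (e : ℕ) {D : WithBot ℕ∞} (i₀ : ι) (h₀ : 0 ≤ g i₀)
    (h : ∀ i, g i + e ≤ D) : (⨆ i, g i) + e ≤ D := by
  have hD : (e : WithBot ℕ∞) ≤ D := (le_add_of_nonneg_left h₀).trans (h i₀)
  cases D with
  | bot => exact absurd (le_bot_iff.mp hD) (WithBot.coe_ne_bot (a := (e : ℕ∞)))
  | coe D =>
    rcases eq_or_ne D ⊤ with rfl | hne
    · exact le_top
    · obtain ⟨m, rfl⟩ := ENat.ne_top_iff_exists.mp hne
      have hem : e ≤ m := ENat.natCast_le_natCast.mp (WithBot.coe_le_coe.mp hD)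
      refine (add_le_add_left (iSup_le fun i => le_natCast_sub (a := g i) (h i)) _).trans (le_of_eq ?_)
      show (((m - e : ℕ) : ℕ∞) : WithBot ℕ∞) + ((e : ℕ∞) : WithBot ℕ∞) = _
      rw [← WithBot.coe_add, ← Nat.cast_add, Nat.sub_add_cancel hem]

/-- The dimension of an irreducible scheme is at most that of the base plus that of the generic fibre. -/
theorem topDim_le_add_of_forall [IsLocallyNoetherian Y] (f : X ⟶ Y) [LocallyOfFiniteType f] (n : ℕ)
    (h : ∀ x : X, FlatMor.fibreDimAt f x ≤ n) : topologicalKrullDim X ≤ topologicalKrullDim Y + n := by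
  refine DimIneq.topologicalKrullDim_le f n fun ξ _ => ?_
  obtain ⟨k, t, -, -, -, htr, hfd⟩ := fibre_facts f ξ
  rw [htr]
  have := h ξ
  rw [hfd] at this
  have hkt : k + t ≤ n := by exact_mod_cast this
  exact_mod_cast (Nat.le_add_left t k).trans hkt

theorem fibreDimAt_genericPoint_facts (f : X ⟶ Y) [LocallyOfFiniteType f] [IrreducibleSpace X] :
    ∃ e : ℕ, Order.krullDim {z : X | f z = f (genericPoint X) ∧ genericPoint X ⤳ z} = e ∧
      FlatMor.fibreDimAt f (genericPoint X) = e ∧
      topologicalKrullDim ↥(f.fiber (f (genericPoint X))) = e := by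
  obtain ⟨k, t, -, hk, ht, -, hfd⟩ := fibre_facts f (genericPoint X)
  rw [dim_zero_of_fMax f (fun z hz _ => (hz.antisymm (genericPoint_specializes z)).eq)] at hk
  rw [show k = 0 from Nat.cast_eq_zero.mp hk.symm, zero_add] at hfd
  exact ⟨t, ht, hfd, (topDim_fiber_generic f).trans ht⟩

theorem topDim_le_add_generic [IsLocallyNoetherian Y] (f : X ⟶ Y) [LocallyOfFiniteType f] [IrreducibleSpace X] :
    topologicalKrullDim X ≤ topologicalKrullDim Y + topologicalKrullDim ↥(f.fiber (f (genericPoint X))) := by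
  obtain ⟨e, he, -, hfib⟩ := fibreDimAt_genericPoint_facts f
  rw [hfib]
  refine DimIneq.topologicalKrullDim_le f e fun ξ hξ => ?_
  obtain rfl : ξ = genericPoint X :=
    ((FlatOpen.EquiDim.exists_max_closure_eq hξ).elim fun m hm =>
      (isGenericPoint_closure : IsGenericPoint ξ (closure {ξ})).eq (hm.2 ▸ isGenericPoint_closure) |>.trans
        (hm.1 _ (genericPoint_specializes m)).symm)
  obtain ⟨k, t, -, -, ht, htr, -⟩ := fibre_facts f (genericPoint X)
  rw [htr]
  rw [he] at ht
  exact (Nat.cast_le (α := Cardinal)).mpr (le_of_eq (by exact_mod_cast ht.symm))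

/-- Over universally catenary local rings, the dimension formula for an irreducible source. -/
theorem topDim_eq_iSup_add [IsLocallyNoetherian Y] (f : X ⟶ Y) [LocallyOfFiniteType f] [IrreducibleSpace X]
    [IrreducibleSpace Y] (hf : DenseRange f.base) (hY : ∀ y : Y, CAlg.IsUniversallyCatenary (Y.presheaf.stalk y)) :
    topologicalKrullDim X =
      (⨆ y : Set.range f.base, ringKrullDim (Y.presheaf.stalk y.1)) +
        topologicalKrullDim ↥(f.fiber (genericPoint Y)) := by
  have hη := apply_genericPoint f hf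
  obtain ⟨e, he, -, hfib⟩ := fibreDimAt_genericPoint_facts f
  rw [hη] at hfib
  rw [hfib]
  have key : ∀ z : X, ∃ b t a : ℕ, ringKrullDim (X.presheaf.stalk z) = b ∧
      Order.krullDim {w : X | f w = f z ∧ z ⤳ w} = t ∧ ringKrullDim (Y.presheaf.stalk (f z)) = a ∧ b + t = a + e := by
    intro z
    obtain ⟨b, t, a, e', hb, ht, ha, he', -, heq⟩ := dim_equality f (genericPoint_specializes z)
    obtain rfl : e' = e := by rw [he] at he'; exact_mod_cast he'.symm
    refine ⟨b, t, a, ?_, ht, ?_, heq (hY _)⟩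
    · rw [FibSemi.ringKrullDim_stalk_eq, ← hb]
      exact le_antisymm (FibSemi.krullDim_mono fun w hw => ⟨genericPoint_specializes w, hw⟩)
        (FibSemi.krullDim_mono fun w hw => hw.2)
    · rw [FibSemi.ringKrullDim_stalk_eq, ← ha, hη]
      exact le_antisymm (FibSemi.krullDim_mono fun w hw => ⟨genericPoint_specializes w, hw⟩)
        (FibSemi.krullDim_mono fun w hw => hw.2)
  rw [DimIneq.topologicalKrullDim_eq_iSup_stalk X]
  refine le_antisymm (iSup_le fun z => ?_) ?_
  · obtain ⟨b, t, a, hb, -, ha, hbt⟩ := key z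
    refine le_trans ?_ (add_le_add_left (le_iSup (fun y : Set.range f.base => ringKrullDim (Y.presheaf.stalk y.1))
      ⟨f z, z, rfl⟩) _)
    rw [hb, show ringKrullDim (Y.presheaf.stalk (f z)) = a from ha]
    exact_mod_cast (by omega : b ≤ a + e)
  · obtain ⟨-, -, a₀, -, -, ha₀, -⟩ := key (genericPoint X)
    refine iSup_add_le _ e ⟨f (genericPoint X), _, rfl⟩ ((Nat.cast_nonneg a₀).trans ha₀.ge) ?_
    rintro ⟨y, z, rfl⟩
    obtain ⟨w, -, -, hfw, hcl⟩ := FibSemi.exists_closed_in_fibre f z ⊤ trivial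
    obtain ⟨b, t, a, hb, ht, ha, hbt⟩ := key w
    have ht0 : t = 0 := by
      haveI : Subsingleton {v : X | f v = f w ∧ w ⤳ v} :=
        ⟨fun p q => Subtype.ext ((hcl _ p.2.1 p.2.2).trans (hcl _ q.2.1 q.2.2).symm)⟩
      have h0 := Order.krullDim_nonpos_of_subsingleton (α := {v : X | f v = f w ∧ w ⤳ v})
      rw [ht] at h0
      exact Nat.le_zero.mp (by exact_mod_cast h0)
    refine le_trans (le_of_eq ?_) (le_iSup (fun v : X => ringKrullDim (X.presheaf.stalk v)) w)
    show ringKrullDim (Y.presheaf.stalk (f z)) + e = ringKrullDim (X.presheaf.stalk w)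
    rw [← hfw, ha, hb]
    exact_mod_cast (by omega : a + e = b)

/-- The dimension of a scheme is the supremum of the dimensions of its components. -/
theorem topDim_le_of_components {d : WithBot ℕ∞}
    (h : ∀ Z ∈ irreducibleComponents (X : Type u), topologicalKrullDim ↥Z ≤ d) : topologicalKrullDim X ≤ d := by
  rw [show topologicalKrullDim ↥X = Order.krullDim ↥X from
      Order.krullDim_eq_of_orderIso irreducibleSetEquivPoints, Order.krullDim]
  refine iSup_le fun l => ?_
  obtain ⟨m, hm, hmax⟩ := FibSemi.exists_max_specializes (X := X) l.last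
  refine le_trans ?_ (h _ (FlatOpen.EquiDim.closure_mem_irreducibleComponents fun z hz => hmax z hz))
  exact FibSemi.length_le_topDim l fun i => specializes_iff_mem_closure.mp
    (hm.trans (show l i ≤ l.last from LTSeries.monotone l (Fin.le_last i)))

end Groth.Agent.EquidimPt
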