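import Groth.Agent.EquidimPt.Component
import Groth.Agent.CycLib.FieldDelta
import Groth.Agent.LimTop.Closure
import Groth.Agent.ConstrLib.Basic
import Mathlib.AlgebraicGeometry.Morphisms.FinitePresentation

/-!
Fibre dimensions of a morphism of schemes locally of finite type over a field.
-/

set_option autoImplicit false
set_option linter.style.haveILetI false
universe u
open CategoryTheory AlgebraicGeometry Limits Topology TopologicalSpace

noncomputable section

namespace Groth.Agent.EquidimPt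

variable (k : Type u) [Field k] {X Y : Scheme.{u}}

/-- The dimension of a point over a field. -/
def dimOver (c : X ⟶ Spec (CommRingCat.of k)) (x : X) : ℕ :=
  letI : X.Over (Spec (CommRingCat.of k)) := ⟨c⟩
  VarDim.dimPt k X x

section one

variable (c : X ⟶ Spec (CommRingCat.of k)) [LocallyOfFiniteType c]

theorem topDim_eq_iSup : topologicalKrullDim X = ⨆ x : X, (dimOver k c x : WithBot ℕ∞) := by
  letI : X.Over (Spec (CommRingCat.of k)) := ⟨c⟩
  haveI : LocallyOfFiniteType (X ↘ Spec (CommRingCat.of k)) := ‹LocallyOfFiniteType c›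
  exact VarDim.topologicalKrullDim_eq_iSup k

theorem topDim_closure_eq (x : X) : topologicalKrullDim (closure ({x} : Set X)) = dimOver k c x := by
  letI : X.Over (Spec (CommRingCat.of k)) := ⟨c⟩
  haveI : LocallyOfFiniteType (X ↘ Spec (CommRingCat.of k)) := ‹LocallyOfFiniteType c›
  rw [CycLib.topologicalKrullDim_closure, VarDim.height_eq_dimPt k]
  rfl

theorem dimOver_le {a b : X} (h : a ⤳ b) : dimOver k c b ≤ dimOver k c a := by
  letI : X.Over (Spec (CommRingCat.of k)) := ⟨c⟩
  haveI : LocallyOfFiniteType (X ↘ Spec (CommRingCat.of k)) := ‹LocallyOfFiniteType c›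
  exact (VarDim.exists_ltSeries_of_le k (show b ≤ a from h)).1

theorem eq_of_dimOver_le {a b : X} (h : a ⤳ b) (hd : dimOver k c a ≤ dimOver k c b) : a = b := by
  letI : X.Over (Spec (CommRingCat.of k)) := ⟨c⟩
  haveI : LocallyOfFiniteType (X ↘ Spec (CommRingCat.of k)) := ‹LocallyOfFiniteType c›
  by_contra hne
  have hlt : b < a := lt_of_le_not_ge (show b ≤ a from h) fun h' => hne (h.antisymm h').eq
  have := VarDim.dimPt_lt_of_lt k hlt
  exact absurd hd (not_le.2 this)

theorem dimOver_eq_zero_iff (x : X) : dimOver k c x = 0 ↔ IsClosed ({x} : Set X) := by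
  letI : X.Over (Spec (CommRingCat.of k)) := ⟨c⟩
  haveI : LocallyOfFiniteType (X ↘ Spec (CommRingCat.of k)) := ‹LocallyOfFiniteType c›
  constructor
  · intro h
    refine isClosed_of_closure_subset fun z hz => ?_
    exact (eq_of_dimOver_le k c (specializes_iff_mem_closure.2 hz) (h ▸ Nat.zero_le _)).symm
  · intro h
    obtain ⟨y, hy, -, hy0⟩ := VarDim.exists_le_dimPt_eq_zero k x ⊤ trivial
    have : y = x := h.closure_eq.le (specializes_iff_mem_closure.1 hy)
    exact this ▸ hy0

include k c in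
theorem exists_closed_specialization (x : X) (U : X.Opens) (hx : x ∈ U) :
    ∃ z, x ⤳ z ∧ z ∈ U ∧ IsClosed ({z} : Set X) := by
  letI : X.Over (Spec (CommRingCat.of k)) := ⟨c⟩
  haveI : LocallyOfFiniteType (X ↘ Spec (CommRingCat.of k)) := ‹LocallyOfFiniteType c›
  obtain ⟨y, hy, hyU, hy0⟩ := VarDim.exists_le_dimPt_eq_zero k x U hx
  exact ⟨y, hy, hyU, (dimOver_eq_zero_iff k c y).1 hy0⟩

end one

variable (f : X ⟶ Y) [LocallyOfFiniteType f] (q : Y ⟶ Spec (CommRingCat.of k)) [LocallyOfFiniteType q]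

/-- Dimensions add up along a morphism. -/
theorem exists_dimOver_eq (x : X) :
    ∃ t : ℕ, Order.krullDim {w : X | f w = f x ∧ x ⤳ w} = t ∧
      dimOver k (f ≫ q) x = dimOver k q (f x) + t := by
  obtain ⟨n, t, -, -, ht, htr, -⟩ := fibre_facts f x
  obtain ⟨j, hj, he⟩ := CycLib.deltaCompat_fdelta k f (f ≫ q) q rfl x
  rw [htr] at hj
  have htj : t = j := Nat.cast_inj.1 hj
  have he' : (dimOver k (f ≫ q) x : ℤ) = (dimOver k q (f x) : ℤ) + (j : ℤ) := he
  exact ⟨t, ht, by omega⟩

/-- Points of a fibre bound its dimension below. -/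
theorem krullDim_le_topDim_fibre {y : Y} {x : X} (hx : f x = y) :
    Order.krullDim {w : X | f w = f x ∧ x ⤳ w} ≤ topologicalKrullDim ↥(f ⁻¹' {y}) := by
  subst hx
  rw [← FibSemi.topDim_closure_inter_fibre_eq]
  exact (IsEmbedding.inclusion Set.inter_subset_right).isInducing.topologicalKrullDim_le

/-- A fibre of dimension at least `r` has a point of that dimension. -/
theorem exists_le_of_topDim_fibre {y : Y} {r : ℕ} (h : (r : WithBot ℕ∞) ≤ topologicalKrullDim ↥(f ⁻¹' {y})) :
    ∃ x, f x = y ∧ (r : WithBot ℕ∞) ≤ Order.krullDim {w : X | f w = f x ∧ x ⤳ w} := by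
  letI := f.fiberOverSpecResidueField y
  haveI : LocallyOfFiniteType ((f.fiber y) ↘ Spec (CommRingCat.of (Y.residueField y))) :=
    CycLib.locallyOfFiniteType_fiberToSpecResidueField f y
  have h' : (r : WithBot ℕ∞) ≤ ⨆ z : f.fiber y, (VarDim.dimPt (Y.residueField y) (f.fiber y) z : WithBot ℕ∞) := by
    rw [← VarDim.topologicalKrullDim_eq_iSup]
    exact h.trans (f.fiberHomeo y).symm.isInducing.topologicalKrullDim_le
  obtain ⟨z, hz⟩ : ∃ z : f.fiber y, r ≤ VarDim.dimPt (Y.residueField y) (f.fiber y) z := by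
    by_contra! hno
    rcases isEmpty_or_nonempty ↥(f.fiber y) with he | ⟨⟨z₀⟩⟩
    · rw [iSup_of_empty] at h'
      exact WithBot.not_coe_le_bot _ h'
    · have hr := hno z₀
      have h2 : (r : WithBot ℕ∞) ≤ ((r - 1 : ℕ) : WithBot ℕ∞) :=
        h'.trans (iSup_le fun z => Nat.cast_le.2 (by have := hno z; omega))
      have := Nat.cast_le.1 h2
      omega
  have hy : f (f.fiberι y z) = y := (f.range_fiberι y).le (Set.mem_range_self z)
  refine ⟨_, hy, ?_⟩
  obtain ⟨n, t, -, -, ht, htr, -⟩ := fibre_facts f (f.fiberι y z)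
  have := CycLib.trdeg_fibre f y z
  rw [htr] at this
  rw [ht, Nat.cast_le, show t = VarDim.dimPt (Y.residueField y) (f.fiber y) z from Nat.cast_inj.1 this]
  exact hz

/-- Maximal points lie in a dense image. -/
theorem mem_range_of_max [QuasiCompact f] [QuasiCompact q] (hd : DenseRange f.base) {η : Y}
    (hη : FlatOpen.EquiDim.Max η) : η ∈ Set.range f := by
  haveI : IsLocallyNoetherian Y := LocallyOfFiniteType.isLocallyNoetherian q
  haveI : CompactSpace Y := QuasiCompact.compactSpace_of_compactSpace q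
  haveI : IsNoetherian Y := ⟨⟩
  have hc : IsConstructible (Set.range f) := by
    rw [← Set.image_univ]
    exact f.isConstructible_image IsConstructible.univ
  obtain ⟨z, hz, hzη⟩ := LimTop.exists_specializes_of_mem_closure
    (fun x => ⟨Set.univ, isOpen_univ, trivial, {Subtype.val ⁻¹' Set.range f}, fun T hT => by
      rw [Set.mem_singleton_iff.1 hT]
      exact (hc.preimage_of_isOpenEmbedding (Homeomorph.Set.univ Y).isOpenEmbedding).isLocallyConstructible,
      (Set.sInter_singleton _).symm⟩) (hd η)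
  exact hη z hzη ▸ hz

omit [LocallyOfFiniteType f] in
theorem quasiCompact_of_field (p : X ⟶ Spec (CommRingCat.of k)) [LocallyOfFiniteType p] [QuasiCompact p] :
    QuasiCompact f := by
  haveI : IsLocallyNoetherian X := LocallyOfFiniteType.isLocallyNoetherian p
  haveI : CompactSpace X := QuasiCompact.compactSpace_of_compactSpace p
  haveI : IsNoetherian X := ⟨⟩
  exact ⟨fun U _ _ => NoetherianSpace.isCompact _⟩

section Irreducible

variable (d : ℕ) (hirr : ∀ y : ↥Y, IsClosed ({y} : Set ↥Y) → IsIrreducible (f.base ⁻¹' {y}))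
  (hdim : ∀ y : ↥Y, IsClosed ({y} : Set ↥Y) → topologicalKrullDim ↥(f.base ⁻¹' {y}) = d)

include k q hirr hdim in
/-- A point of dimension `d` of a closed fibre generizes the whole fibre. -/
theorem fibre_subset {y : Y} (hy : IsClosed ({y} : Set Y)) {c : X} (hc : f c = y)
    (hd : (d : WithBot ℕ∞) ≤ Order.krullDim {w : X | f w = f c ∧ c ⤳ w}) : f ⁻¹' {y} ⊆ closure {c} := by
  obtain ⟨g, hg⟩ := QuasiSober.sober (hirr y hy) (hy.preimage f.continuous)
  have hgc : g ⤳ c := hg.specializes hc
  have h1 := krullDim_le_topDim_fibre f (show f g = y from hg.mem)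
  obtain ⟨tg, htg, hDg⟩ := exists_dimOver_eq k f q g
  obtain ⟨tc, htc, hDc⟩ := exists_dimOver_eq k f q c
  rw [hdim y hy, htg] at h1
  rw [htc] at hd
  have h2 := Nat.cast_le.1 h1
  have h3 := Nat.cast_le.1 hd
  rw [show f g = y from hg.mem] at hDg
  rw [hc] at hDc
  have : g = c := eq_of_dimOver_le k (f ≫ q) hgc (by omega)
  rw [← this, hg.def]

include hirr hdim in
theorem fibreDimAt_closed {z : X} (hz : IsClosed ({f z} : Set Y)) : FlatMor.fibreDimAt f z = d := by
  obtain ⟨g, hg⟩ := QuasiSober.sober (hirr _ hz) (hz.preimage f.continuous)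
  obtain ⟨c, hcz, hfc, hcmax, -, -, e', -, -, hfd, hc, -⟩ := FibSemi.exists_max_fibre f z
  have hgc : g ⤳ c := hg.specializes hfc
  have hgc' : g = c := hcmax g hg.mem hgc
  rw [hfd, ← hc]
  refine le_antisymm ((krullDim_le_topDim_fibre f hfc).trans (hdim _ hz).le) ?_
  obtain ⟨w, hw, hle⟩ := exists_le_of_topDim_fibre f (hdim _ hz).ge
  refine hle.trans ?_
  have hgw : c ⤳ w := hgc' ▸ hg.specializes hw
  refine FibSemi.krullDim_mono fun v hv => ⟨?_, hgw.trans hv.2⟩
  rw [hv.1, hw, hfc]

include hirr hdim in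
/-- Every component has generic fibre dimension `d`. -/
theorem component_dim {m : X} (hm : FlatOpen.EquiDim.Max m) :
    dimOver k (f ≫ q) m = dimOver k q (f m) + d ∧ FlatMor.fibreDimAt f m = d := by
  obtain ⟨t, ht, hD⟩ := exists_dimOver_eq k f q m
  have hfd : FlatMor.fibreDimAt f m = t := (fibreDimAt_of_max f hm).trans ht
  have hclosed : ∀ z : X, IsClosed ({z} : Set X) → IsClosed ({f z} : Set Y) := fun z hz => by
    obtain ⟨t', -, h⟩ := exists_dimOver_eq k f q z
    rw [(dimOver_eq_zero_iff k (f ≫ q) z).2 hz] at h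
    exact (dimOver_eq_zero_iff k q (f z)).1 (by omega)
  obtain ⟨x, hmx, hxW, hx⟩ := exists_closed_specialization k (f ≫ q) m
    ⟨_, FlatMisc.FibreDimScheme.isOpen_fibreDimAt_le f t⟩ hfd.le
  have h1 := fibreDimAt_closed f d hirr hdim (hclosed x hx)
  have h2 := fibreDimAt_mono f hmx
  rw [hfd, h1] at h2
  have h3 : FlatMor.fibreDimAt f x ≤ t := hxW
  rw [h1] at h3
  have h4 := Nat.cast_le.1 h2
  have h5 := Nat.cast_le.1 h3
  obtain rfl : t = d := by omega
  exact ⟨hD, hfd⟩

include hirr hdim in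
theorem exists_dominant [IrreducibleSpace Y] [QuasiCompact f] [QuasiCompact q] :
    ∃ m : X, FlatOpen.EquiDim.Max m ∧ f m = genericPoint Y := by
  have hd : DenseRange f.base := fun y => by
    rw [mem_closure_iff]
    intro o ho hyo
    obtain ⟨z, hyz, hzo, hz⟩ := exists_closed_specialization k q y ⟨o, ho⟩ hyo
    obtain ⟨x, hx⟩ := (hirr z hz).1
    exact ⟨z, hzo, x, hx⟩
  have hgen : FlatOpen.EquiDim.Max (genericPoint Y) := fun z hz => (hz.antisymm (genericPoint_specializes z)).eq
  obtain ⟨x, hx⟩ := mem_range_of_max k f q hd hgen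
  obtain ⟨m, hmx, hm⟩ := FlatOpen.EquiDim.exists_max x
  exact ⟨m, hm, hgen _ (hx ▸ hmx.map f.continuous)⟩

end Irreducible

end Groth.Agent.EquidimPt
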