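import Groth.Agent.FibSemi.Equidim
import Groth.Agent.FlatOpen.EquiDim
import Groth.Agent.DimOpen.GenericFibre
import Groth.Agent.AlgSpD.RelDim
import Groth.Agent.S2594
import Groth.Agent.FlatMor.DimOne
import Groth.Prelude.Def_EGA43
import Groth.Prelude.Def_EGA4Misc

/-!
Equidimensionality at a point, read on the maximal points through it (EGA IV 13.3), together with the
dimension formula along a component.
-/

set_option autoImplicit false
set_option linter.style.haveILetI false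
universe u
open CategoryTheory AlgebraicGeometry Limits Topology IsLocalRing

noncomputable section

namespace Groth.Agent.EquidimPt


variable {X Y : Scheme.{u}} (f : X ⟶ Y)

/-- The points between `a` and `x`. -/
abbrev between {Z : Scheme.{u}} (a x : Z) : Set Z := {z | a ⤳ z ∧ z ⤳ x}

/-- The dimension inequality along `ξ ⤳ x`, an equality over a universally catenary local ring. -/
theorem dim_equality [LocallyOfFiniteType f] [IsLocallyNoetherian Y] {ξ x : X} (h : ξ ⤳ x) :
    ∃ b t a e : ℕ, Order.krullDim {z : X | ξ ⤳ z ∧ z ⤳ x} = b ∧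
      Order.krullDim {z : X | f z = f x ∧ x ⤳ z} = t ∧
      Order.krullDim {z : Y | f ξ ⤳ z ∧ z ⤳ f x} = a ∧
      Order.krullDim {z : X | f z = f ξ ∧ ξ ⤳ z} = e ∧ b + t ≤ a + e ∧
      (CAlg.IsUniversallyCatenary (Y.presheaf.stalk (f x)) → b + t = a + e) := by
  obtain ⟨V, hV, hyV, -⟩ := exists_isAffineOpen_mem_and_subset (U := ⊤) (x := f x) trivial
  obtain ⟨W, hW, hxW, eWsub⟩ := exists_isAffineOpen_mem_and_subset (U := f ⁻¹ᵁ V) (x := x) hyV
  have eW : W ≤ f ⁻¹ᵁ V := eWsub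
  letI : Algebra Γ(Y, V) Γ(X, W) := (f.appLE V W eW).hom.toAlgebra
  haveI : Algebra.FiniteType Γ(Y, V) Γ(X, W) := LocallyOfFiniteType.finiteType_appLE f hV hW eW
  haveI : IsNoetherianRing Γ(Y, V) := IsLocallyNoetherian.component_noetherian ⟨V, hV⟩
  obtain ⟨P, rfl⟩ := DimSpec.exists_fromSpec hW hxW
  obtain ⟨q, rfl⟩ := DimSpec.exists_fromSpec hW (h.mem_open W.isOpen hxW)
  have hqP : q ≤ P := (PrimeSpectrum.le_iff_specializes q P).mpr
    (hW.fromSpec.isOpenEmbedding.isEmbedding.specializes_iff.mp h)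
  let N : PrimeSpectrum Γ(Y, V) := q.comap (algebraMap Γ(Y, V) Γ(X, W))
  let p : PrimeSpectrum Γ(Y, V) := P.comap (algebraMap Γ(Y, V) Γ(X, W))
  have hNp : N ≤ p := Ideal.comap_mono hqP
  haveI := q.isPrime; haveI := P.isPrime; haveI := N.isPrime; haveI := p.isPrime
  let A' := Γ(Y, V) ⧸ N.asIdeal
  let S := Γ(X, W) ⧸ q.asIdeal
  letI algAS : Algebra A' S := (Ideal.quotientMap q.asIdeal (f.appLE V W eW).hom le_rfl).toAlgebra
  haveI : IsScalarTower Γ(Y, V) A' S := IsScalarTower.of_algebraMap_eq fun _ => rfl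
  haveI : IsDomain A' := Ideal.Quotient.isDomain _
  haveI : IsDomain S := Ideal.Quotient.isDomain _
  haveI : FaithfulSMul A' S := (faithfulSMul_iff_algebraMap_injective _ _).mpr
    (Ideal.quotientMap_injective' (H := le_rfl) le_rfl)
  haveI : Algebra.FiniteType Γ(Y, V) S :=
    .of_surjective (Ideal.Quotient.mkₐ _ q.asIdeal) Ideal.Quotient.mk_surjective
  haveI : Algebra.FiniteType A' S := .of_restrictScalars_finiteType Γ(Y, V) A' S
  let p' : Ideal A' := p.asIdeal.map (Ideal.Quotient.mk N.asIdeal)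
  let P' : Ideal S := P.asIdeal.map (Ideal.Quotient.mk q.asIdeal)
  haveI hp'prime : p'.IsPrime := Ideal.map_isPrime_of_surjective Ideal.Quotient.mk_surjective (by rw [Ideal.mk_ker]; exact hNp)
  haveI : P'.IsPrime := Ideal.map_isPrime_of_surjective Ideal.Quotient.mk_surjective (by rw [Ideal.mk_ker]; exact hqP)
  haveI hlies : P'.LiesOver p' := ⟨by
    have h1 : (P'.comap (algebraMap A' S)).comap (Ideal.Quotient.mk N.asIdeal) = p.asIdeal := by
      rw [Ideal.comap_comap, show (algebraMap A' S).comp (Ideal.Quotient.mk N.asIdeal) =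
        (Ideal.Quotient.mk q.asIdeal).comp (algebraMap Γ(Y, V) Γ(X, W)) from rfl, ← Ideal.comap_comap,
        Ideal.comap_map_of_surjective _ Ideal.Quotient.mk_surjective, ← RingHom.ker_eq_comap_bot, Ideal.mk_ker,
        sup_eq_left.mpr hqP]
      rfl
    show p' = P'.comap (algebraMap A' S)
    rw [show p' = p.asIdeal.map (Ideal.Quotient.mk N.asIdeal) from rfl, ← h1,
      Ideal.map_comap_of_surjective _ Ideal.Quotient.mk_surjective]⟩
  obtain ⟨b, a, t, e, hb, ha, ht, he, hle, heq⟩ := CycLib.height_add_trdeg (A := A') (S := S) p' P'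
  refine ⟨b, t, a, e, ?_, ?_, ?_, ?_, hle, fun hcat => heq ?_⟩
  · rw [FibSemi.krullDim_between hW q P hqP, hb]; rfl
  · refine FibSemi.krullDim_specs f hV hW eW P p.asIdeal rfl t ?_
    letI : Algebra (Γ(Y, V) ⧸ p.asIdeal) (Γ(X, W) ⧸ P.asIdeal) :=
      (Ideal.quotientMap P.asIdeal (f.appLE V W eW).hom le_rfl).toAlgebra
    rw [← ht]
    refine CycLib.trdeg_congr (DoubleQuot.quotQuotEquivQuotOfLE hNp).symm
      (DoubleQuot.quotQuotEquivQuotOfLE hqP).symm fun x => ?_
    obtain ⟨x, rfl⟩ := Ideal.Quotient.mk_surjective x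
    rfl
  · rw [DimSpec.app_fromSpec hV hW eW, DimSpec.app_fromSpec hV hW eW]
    exact (FibSemi.krullDim_between hV N p hNp).trans (by rw [ha]; rfl)
  · exact FibSemi.krullDim_specs f hV hW eW q N.asIdeal rfl e he
  · refine CycLib.polyCatAt_of_surjective (Ideal.Quotient.mk N.asIdeal) Ideal.Quotient.mk_surjective p' ?_
    rw [Ideal.comap_map_of_surjective _ Ideal.Quotient.mk_surjective, ← RingHom.ker_eq_comap_bot, Ideal.mk_ker,
      sup_eq_left.mpr hNp]
    have hmem : hV.fromSpec p ∈ V := hV.range_fromSpec.le ⟨p, rfl⟩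
    rw [DimSpec.app_fromSpec hV hW eW P] at hcat
    letI alg := TopCat.Presheaf.algebra_section_stalk Y.presheaf (⟨hV.fromSpec p, hmem⟩ : V)
    exact @CycLib.polyCatAt_of_isLocalization _ _ p.asIdeal p.isPrime (Y.presheaf.stalk (hV.fromSpec p)) _ alg
      (hV.isLocalization_stalk' p hmem) hcat

/-- The invariants of the fibre through a point. -/
theorem fibre_facts [LocallyOfFiniteType f] (x : X) :
    ∃ n t : ℕ, ringKrullDim ((f.fiber (f x)).presheaf.stalk (f.asFiber x)) = n ∧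
      Order.krullDim {z : X | f z = f x ∧ z ⤳ x} = n ∧
      Order.krullDim {z : X | f z = f x ∧ x ⤳ z} = t ∧
      @Algebra.trdeg (Y.residueField (f x)) (X.residueField x) _ _ (f.residueFieldMap x).hom.toAlgebra = t ∧
      FlatMor.fibreDimAt f x = ((n + t : ℕ) : WithBot ℕ∞) := by
  obtain ⟨c, n', hc, hn', hfd⟩ := DimOpen.exists_fibreDimAt f x
  obtain ⟨n, m, hn, hm, hfd'⟩ := FibSemi.fibreDimAt_eq_add f x
  have hcn : c = n := by
    rw [ringKrullDim_stalk_eq_coheight, FibSemi.coheight_asFiber, hn] at hc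
    exact_mod_cast hc.symm
  subst hcn
  rw [hfd'] at hfd
  have hmn : c + m = c + n' := by exact_mod_cast hfd
  obtain rfl : m = n' := by omega
  exact ⟨c, m, hc, hn, hm, hn', hfd'⟩

/-- The fibre dimension only grows under specialization. -/
theorem fibreDimAt_mono [LocallyOfFiniteType f] {ξ x : X} (h : ξ ⤳ x) :
    FlatMor.fibreDimAt f ξ ≤ FlatMor.fibreDimAt f x := by
  obtain ⟨n, t, -, -, -, -, hfd⟩ := fibre_facts f x
  have := h.mem_open (FlatMisc.FibreDimScheme.isOpen_fibreDimAt_le f (n + t)) hfd.le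
  rw [hfd]
  exact this

/-- No chain above a point of dimension zero. -/
theorem fMax_of_dim_zero {x : X} (h : Order.krullDim {z : X | f z = f x ∧ z ⤳ x} = 0) :
    FlatOpen.EquiDim.FMax f x := by
  intro z hz hfz
  by_contra hne
  have h1 : 0 < Order.krullDim {z : X | f z = f x ∧ z ⤳ x} := Order.krullDim_pos_iff.mpr
    ⟨⟨x, rfl, specializes_rfl⟩, ⟨z, hfz, hz⟩, ⟨hz, fun h' => hne (hz.antisymm h').eq⟩⟩
  rw [h] at h1
  exact lt_irrefl _ h1

theorem dim_zero_of_fMax {x : X} (h : FlatOpen.EquiDim.FMax f x) :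
    Order.krullDim {z : X | f z = f x ∧ z ⤳ x} = 0 := by
  haveI : Subsingleton {z : X | f z = f x ∧ z ⤳ x} :=
    ⟨fun a b => Subtype.ext ((h _ a.2.2 a.2.1).trans (h _ b.2.2 b.2.1).symm)⟩
  haveI : Nonempty {z : X | f z = f x ∧ z ⤳ x} := ⟨⟨x, rfl, specializes_rfl⟩⟩
  exact Order.krullDim_eq_zero

/-- The numbers attached to a maximal point `ξ` through `x`. -/
theorem comp_facts [LocallyOfFiniteType f] [IsLocallyNoetherian Y] {ξ x : X} (h : ξ ⤳ x)
    (hξ : FlatOpen.EquiDim.Max ξ) :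
    ∃ b t a e n : ℕ, Order.krullDim (between ξ x) = b ∧
      @Algebra.trdeg (Y.residueField (f x)) (X.residueField x) _ _ (f.residueFieldMap x).hom.toAlgebra = t ∧
      Order.krullDim (between (f ξ) (f x)) = a ∧
      Order.krullDim {z : X | f z = f ξ ∧ ξ ⤳ z} = e ∧ FlatMor.fibreDimAt f ξ = e ∧
      ringKrullDim ((f.fiber (f x)).presheaf.stalk (f.asFiber x)) = n ∧
      FlatMor.fibreDimAt f x = ((n + t : ℕ) : WithBot ℕ∞) ∧ e ≤ n + t ∧ b + t ≤ a + e ∧
      (CAlg.IsUniversallyCatenary (Y.presheaf.stalk (f x)) → b + t = a + e) := by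
  obtain ⟨b, t, a, e, hb, ht, ha, he, hle, heq⟩ := dim_equality f h
  obtain ⟨n, t', hn, -, ht', htr, hfd⟩ := fibre_facts f x
  obtain rfl : t' = t := by rw [ht] at ht'; exact_mod_cast ht'.symm
  obtain ⟨n₁, t₁, -, hn₁, ht₁, -, hfd₁⟩ := fibre_facts f ξ
  obtain rfl : t₁ = e := by rw [he] at ht₁; exact_mod_cast ht₁.symm
  obtain rfl : n₁ = 0 := by
    rw [dim_zero_of_fMax f (fun z hz _ => hξ z hz)] at hn₁
    exact_mod_cast hn₁.symm
  rw [zero_add] at hfd₁
  have hmono := fibreDimAt_mono f h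
  rw [hfd₁, hfd] at hmono
  exact ⟨b, t', a, t₁, n, hb, htr, ha, he, hfd₁, hn, hfd, by exact_mod_cast hmono, hle, heq⟩

/-- Chains above a prime of a local ring. -/
theorem dim_quot (x : X) (q : PrimeSpectrum (X.presheaf.stalk x)) :
    ringKrullDim (X.presheaf.stalk x ⧸ q.asIdeal) = Order.krullDim (between (X.fromSpecStalk x q) x) := by
  rw [ringKrullDim, Order.krullDim_eq_of_orderIso (Ideal.primeSpectrumQuotientOrderIsoZeroLocus q.asIdeal)]
  let i : (PrimeSpectrum (X.presheaf.stalk x))ᵒᵈ → X := fun p => X.fromSpecStalk x (OrderDual.ofDual p)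
  rw [← Order.krullDim_orderDual (α := PrimeSpectrum.zeroLocus (R := X.presheaf.stalk x) (q.asIdeal : Set (X.presheaf.stalk x)))]
  have hi : ∀ a b, i a ≤ i b ↔ a ≤ b := fun a b =>
    ((X.fromSpecStalk x).isEmbedding.specializes_iff).trans (PrimeSpectrum.le_iff_specializes _ _).symm
  let S : Set (PrimeSpectrum (X.presheaf.stalk x))ᵒᵈ :=
    OrderDual.ofDual ⁻¹' PrimeSpectrum.zeroLocus (q.asIdeal : Set (X.presheaf.stalk x))
  rw [Order.krullDim_eq_of_orderIso (β := S)
    { toFun := fun a => ⟨OrderDual.toDual (OrderDual.ofDual a).1, (OrderDual.ofDual a).2⟩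
      invFun := fun a => OrderDual.toDual ⟨OrderDual.ofDual a.1, a.2⟩
      left_inv := fun _ => rfl
      right_inv := fun _ => rfl
      map_rel_iff' := Iff.rfl }]
  refine FibSemi.krullDim_eq_of_embedding i hi ?_ _ _ fun z => ?_
  · exact fun a b h => (X.fromSpecStalk x).isEmbedding.injective h
  · constructor
    · rintro ⟨hqz, hzx⟩
      obtain ⟨p, rfl⟩ : z ∈ Set.range (X.fromSpecStalk x) := by rw [Scheme.range_fromSpecStalk]; exact hzx
      exact ⟨OrderDual.toDual p, (PrimeSpectrum.le_iff_specializes _ _).mpr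
        ((X.fromSpecStalk x).isEmbedding.specializes_iff.mp hqz), rfl⟩
    · rintro ⟨p, hp, rfl⟩
      exact ⟨((PrimeSpectrum.le_iff_specializes _ _).mp hp).map (X.fromSpecStalk x).continuous,
        FlatMor.DimOne.fromSpecStalk_specializes x _⟩

theorem dim_quot_comap (x : X) (q : PrimeSpectrum (X.presheaf.stalk x)) :
    ringKrullDim (Y.presheaf.stalk (f x) ⧸ q.asIdeal.comap (f.stalkMap x).hom) =
      Order.krullDim (between (f (X.fromSpecStalk x q)) (f x)) := by
  rw [FlatMor.DimOne.apply_fromSpecStalk]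
  exact dim_quot (f x) (Spec.map (f.stalkMap x) q)

theorem max_iff_minimal (x : X) (q : PrimeSpectrum (X.presheaf.stalk x)) :
    FlatOpen.EquiDim.Max (X.fromSpecStalk x q) ↔ q.asIdeal ∈ minimalPrimes (X.presheaf.stalk x) := by
  rw [← FlatMor.DimOne.closure_fromSpecStalk_mem_iff]
  refine ⟨FlatOpen.EquiDim.closure_mem_irreducibleComponents, fun h => ?_⟩
  obtain ⟨m, hm, hmeq⟩ := FlatOpen.EquiDim.exists_max_closure_eq h
  rwa [← (hmeq ▸ isGenericPoint_closure : IsGenericPoint m (closure {X.fromSpecStalk x q})).eq isGenericPoint_closure]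

theorem dim_between_le {a x : X} : Order.krullDim (between a x) ≤ ringKrullDim (X.presheaf.stalk x) := by
  rw [FibSemi.ringKrullDim_stalk_eq]
  exact FibSemi.krullDim_mono fun z hz => hz.2

theorem exists_dim (x : X) [IsLocallyNoetherian X] : ∃ d : ℕ, ringKrullDim (X.presheaf.stalk x) = d := by
  obtain ⟨d, hd, -⟩ := RegLoc.exists_natCast_eq_ringKrullDim (X.presheaf.stalk x)
  exact ⟨d, hd⟩

/-- The dimension of a local ring is that of one of its components. -/
theorem exists_max_attained [IsLocallyNoetherian X] (x : X) :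
    ∃ ξ, ξ ⤳ x ∧ FlatOpen.EquiDim.Max ξ ∧ Order.krullDim (between ξ x) = ringKrullDim (X.presheaf.stalk x) := by
  obtain ⟨d, hd⟩ := exists_dim x
  have hd' := hd
  rw [FibSemi.ringKrullDim_stalk_eq] at hd'
  obtain ⟨l, hl⟩ := Order.le_krullDim_iff.mp hd'.ge
  obtain ⟨ξ, hξ, hmax⟩ := FlatOpen.EquiDim.exists_max (l.last).1
  refine ⟨ξ, hξ.trans (l.last).2, hmax, le_antisymm dim_between_le ?_⟩
  rw [hd, ← hl]
  refine Order.le_krullDim_iff.mpr ⟨LTSeries.mk l.length
    (fun i => (⟨(l i).1, hξ.trans (show (l.last).1 ⤳ (l i).1 from l.monotone (Fin.le_last i)), (l i).2⟩ : between ξ x))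
    (fun i j hij => l.strictMono hij), rfl⟩

theorem isEquidim_iff (x : X) :
    EGA4.IsEquidim (X.presheaf.stalk x) ↔
      ∀ ξ, ξ ⤳ x → FlatOpen.EquiDim.Max ξ → Order.krullDim (between ξ x) = ringKrullDim (X.presheaf.stalk x) := by
  constructor
  · intro h ξ hξ hmax
    obtain ⟨q, rfl⟩ : ξ ∈ Set.range (X.fromSpecStalk x) := by rw [Scheme.range_fromSpecStalk]; exact hξ
    rw [← dim_quot]
    exact h _ ((max_iff_minimal x q).1 hmax)
  · intro h p hp
    rw [dim_quot x ⟨p, hp.1.1⟩]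
    exact h _ (FlatMor.DimOne.fromSpecStalk_specializes x _) ((max_iff_minimal x ⟨p, hp.1.1⟩).2 hp)

theorem max_of_dim [IsLocallyNoetherian X] {η y : X} (hη : η ⤳ y)
    (h : Order.krullDim (between η y) = ringKrullDim (X.presheaf.stalk y)) : FlatOpen.EquiDim.Max η := by
  intro z hz
  by_contra hne
  obtain ⟨d, hd⟩ := exists_dim y
  rw [hd] at h
  obtain ⟨l, hl⟩ := Order.le_krullDim_iff.mp h.ge
  have hlt : (l.last).1 < z := lt_of_le_of_lt (show (l.last).1 ≤ η from (l.last).2.1)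
    ⟨hz, fun h' => hne (hz.antisymm h').eq⟩
  let l₁ : LTSeries {w : X | w ⤳ y} := (l.map (fun w => (⟨w.1, w.2.2⟩ : {w : X | w ⤳ y})) fun _ _ h => h).snoc
    ⟨z, hz.trans hη⟩ hlt
  have h1 : ((l₁.length : ℕ) : WithBot ℕ∞) ≤ ringKrullDim (X.presheaf.stalk y) := by
    rw [FibSemi.ringKrullDim_stalk_eq]
    exact Order.le_krullDim_iff.mpr ⟨l₁, rfl⟩
  rw [hd, show l₁.length = d + 1 by rw [← hl]; rfl] at h1
  exact absurd (show d + 1 ≤ d by exact_mod_cast h1) (by omega)

/-- A component carrying the whole dimension, when the dimension formula holds. -/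
theorem component_of_formula [LocallyOfFiniteType f] [IsLocallyNoetherian Y] {ξ x : X} (h : ξ ⤳ x)
    (hξ : FlatOpen.EquiDim.Max ξ) (hb : Order.krullDim (between ξ x) = ringKrullDim (X.presheaf.stalk x))
    (hd : ringKrullDim (X.presheaf.stalk x) =
      ringKrullDim (Y.presheaf.stalk (f x)) + ringKrullDim ((f.fiber (f x)).presheaf.stalk (f.asFiber x))) :
    FlatOpen.EquiDim.Max (f ξ) ∧ FlatMor.fibreDimAt f ξ = FlatMor.fibreDimAt f x ∧
      Order.krullDim (between (f ξ) (f x)) = ringKrullDim (Y.presheaf.stalk (f x)) := by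
  obtain ⟨b, t, a, e, n, hb', -, ha, -, hfe, hn, hfd, hen, hle, -⟩ := comp_facts f h hξ
  obtain ⟨d, hdY⟩ := exists_dim (f x)
  have had : a ≤ d := by
    have := dim_between_le (a := f ξ) (x := f x)
    rw [ha, hdY] at this
    exact_mod_cast this
  rw [hb', hd, hdY, hn] at hb
  have hbd : b = d + n := by exact_mod_cast hb
  obtain ⟨rfl, rfl⟩ : a = d ∧ e = n + t := by omega
  exact ⟨max_of_dim (h.map f.continuous) (ha.trans hdY.symm), hfe.trans hfd.symm, ha.trans hdY.symm⟩

/-- The dimension formula from one component, over a universally catenary local ring. -/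
theorem formula_of_component [LocallyOfFiniteType f] [IsLocallyNoetherian Y] {ξ x : X} (h : ξ ⤳ x)
    (hξ : FlatOpen.EquiDim.Max ξ) (hcat : CAlg.IsUniversallyCatenary (Y.presheaf.stalk (f x)))
    (ha : Order.krullDim (between (f ξ) (f x)) = ringKrullDim (Y.presheaf.stalk (f x)))
    (he : FlatMor.fibreDimAt f ξ = FlatMor.fibreDimAt f x) :
    ringKrullDim (X.presheaf.stalk x) =
      ringKrullDim (Y.presheaf.stalk (f x)) + ringKrullDim ((f.fiber (f x)).presheaf.stalk (f.asFiber x)) ∧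
    Order.krullDim (between ξ x) = ringKrullDim (X.presheaf.stalk x) := by
  haveI : IsLocallyNoetherian X := LocallyOfFiniteType.isLocallyNoetherian f
  obtain ⟨b, t, a, e, n, hb, -, ha', -, hfe, hn, hfd, -, -, heq⟩ := comp_facts f h hξ
  rw [hfe, hfd] at he
  have hent : e = n + t := by exact_mod_cast he
  have hbn : b = a + n := by have := heq hcat; omega
  have hle := DimOpen.dim_le_add f x
  have hge : Order.krullDim (between ξ x) ≤ ringKrullDim (X.presheaf.stalk x) := dim_between_le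
  have key : Order.krullDim (between ξ x) =
      ringKrullDim (Y.presheaf.stalk (f x)) + ringKrullDim ((f.fiber (f x)).presheaf.stalk (f.asFiber x)) := by
    rw [hb, hn, ← ha, ha', hbn, Nat.cast_add]
  have hXx := le_antisymm (key ▸ hle) hge
  exact ⟨hXx.trans key, hXx.symm⟩

/-- Equidimensionality at a point of a locally Noetherian base, on maximal points. -/
theorem isEquidimAt_iff [LocallyOfFiniteType f] [IsLocallyNoetherian Y] (x : X) :
    EGA43.IsEquidimAt f x ↔ ∀ ξ, ξ ⤳ x → FlatOpen.EquiDim.Max ξ →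
      FlatOpen.EquiDim.Max (f ξ) ∧ FlatMor.fibreDimAt f ξ = FlatMor.fibreDimAt f x := by
  haveI : IsLocallyNoetherian X := LocallyOfFiniteType.isLocallyNoetherian f
  constructor
  · rintro ⟨e, U, hxU, hcomp, hdim⟩ ξ hξ hmax
    let g := U.ι ≫ f
    have hrel : Cyc.HasRelDim g e := fun y T hT => by
      obtain ⟨t, -⟩ := hT.1.1
      have hy : g (g.fiberι y t) = y := (g.range_fiberι y).le (Set.mem_range_self t)
      generalize g.fiberι y t = w at hy
      subst hy
      exact hdim w T hT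
    have hfib : ∀ w : U.toScheme, FlatMor.fibreDimAt f (U.ι w) = e := fun w => by
      rw [← AlgSpD.fibreDimAt_inv U.ι (𝟙 Y) g f (by rw [Category.comp_id]) w]
      exact FlatOpen.EquiDim.fibreDimAt_eq_of_hasRelDim g hrel w
    let ξ' : U.toScheme := ⟨ξ, hξ.mem_open U.isOpen hxU⟩
    refine ⟨?_, (hfib ξ').trans (hfib ⟨x, hxU⟩).symm⟩
    obtain ⟨W, hW, -, hcl⟩ := hcomp (closure {ξ'})
      (FlatOpen.EquiDim.closure_mem_irreducibleComponents (X := U.toScheme) fun z hz =>
        Subtype.ext (hmax _ (hz.map U.ι.continuous)))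
    erw [closure_image_closure g.continuous, Set.image_singleton] at hcl
    obtain ⟨m, hm, hmW⟩ := FlatOpen.EquiDim.exists_max_closure_eq hW
    have he : m = f ξ :=
      (hmW ▸ isGenericPoint_closure : IsGenericPoint m W).eq (hcl ▸ isGenericPoint_closure : IsGenericPoint _ W)
    exact he ▸ hm
  · intro h
    obtain ⟨n, t, -, -, -, -, hfd⟩ := fibre_facts f x
    let U₀ : X.Opens := ⟨_, FlatMisc.FibreDimScheme.isOpen_fibreDimAt_le f (n + t)⟩
    obtain ⟨U, hU, hxU, hgen⟩ := S2594.exists_open_max_specializes x U₀ hfd.le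
    have hrel : Cyc.HasRelDim (U.ι ≫ f) (n + t) := by
      refine (FlatOpen.EquiDim.hasRelDim_iff_trdeg _ _).2 fun w hw =>
        FlatOpen.EquiDim.fibreDimAt_eq_trdeg _ hw ?_
      rw [AlgSpD.fibreDimAt_inv U.ι (𝟙 Y) (U.ι ≫ f) f (by rw [Category.comp_id]) w]
      obtain ⟨ξ, hξw, hξmax⟩ := FlatOpen.EquiDim.exists_max (U.ι w)
      have hξU : ξ ∈ U := hξw.mem_open U.isOpen w.2
      refine le_antisymm (hU w.2) ?_
      rw [← hfd, ← (h ξ (hgen ξ hξU hξmax) hξmax).2]
      exact fibreDimAt_mono f hξw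
    refine ⟨n + t, U, hxU, fun Z hZ => ?_, fun w Z hZ => hrel _ Z hZ⟩
    obtain ⟨ξ, hξ, rfl⟩ := FlatOpen.EquiDim.exists_max_closure_eq (X := U.toScheme) hZ
    have hξX : FlatOpen.EquiDim.Max (U.ι ξ) := fun z hz => by
      obtain ⟨w, rfl⟩ : z ∈ Set.range U.ι := by rw [Scheme.Opens.range_ι]; exact hz.mem_open U.2 ξ.2
      rw [hξ w (U.ι.isEmbedding.specializes_iff.1 hz)]
    have hsp := hgen _ ξ.2 hξX
    refine ⟨closure {f (U.ι ξ)}, FlatOpen.EquiDim.closure_mem_irreducibleComponents (h _ hsp hξX).1,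
      specializes_iff_mem_closure.1 (hsp.map f.continuous), ?_⟩
    erw [closure_image_closure (U.ι ≫ f).continuous, Set.image_singleton]
    rfl

/-- Equidimensionality from the dimension formula. -/
theorem isEquidimAt_of_formula [LocallyOfFiniteType f] [IsLocallyNoetherian Y] (x : X)
    (hb : ∀ ξ, ξ ⤳ x → FlatOpen.EquiDim.Max ξ → Order.krullDim (between ξ x) = ringKrullDim (X.presheaf.stalk x))
    (hd : ringKrullDim (X.presheaf.stalk x) =
      ringKrullDim (Y.presheaf.stalk (f x)) + ringKrullDim ((f.fiber (f x)).presheaf.stalk (f.asFiber x))) :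
    EGA43.IsEquidimAt f x :=
  (isEquidimAt_iff f x).2 fun ξ h hξ =>
    ⟨(component_of_formula f h hξ (hb ξ h hξ) hd).1, (component_of_formula f h hξ (hb ξ h hξ) hd).2.1⟩

/-- A point of the closure of `ξ` bounds below the local dimension there of the fibre. -/
theorem le_localDim [LocallyOfFiniteType f] {ξ c x : X} (h₁ : ξ ⤳ c) (h₂ : c ⤳ x) :
    Order.krullDim {z : X | f z = f c ∧ c ⤳ z} ≤
      FlatMor.localDim ↥(closure {ξ} ∩ f ⁻¹' {f x})
        ⟨x, specializes_iff_mem_closure.mp (h₁.trans h₂), rfl⟩ := by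
  refine le_iInf fun V => ?_
  obtain ⟨O, hO, hOV⟩ := isOpen_induced_iff.mp V.1.2
  have hxO : x ∈ O := by
    exact hOV.ge (show _ ∈ V.1.carrier from V.2)
  rw [← FibSemi.topDim_closure_inter_fibre_eq]
  refine (FibSemi.topDim_closure_inter_fibre_le f h₂ ⟨O, hO⟩ hxO).trans ?_
  let j : ↥(O ∩ closure {c} ∩ f ⁻¹' {f x}) → ↥(V.1 : Set ↥(closure {ξ} ∩ f ⁻¹' {f x})) := fun z =>
    ⟨⟨z.1, specializes_iff_mem_closure.mp (h₁.trans (specializes_iff_mem_closure.mpr z.2.1.2)), z.2.2⟩,
      hOV.le z.2.1.1⟩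
  exact IsInducing.topologicalKrullDim_le (f := j)
    (IsInducing.of_comp (by fun_prop) (continuous_subtype_val.comp continuous_subtype_val) IsInducing.subtypeVal)

/-- The fibre in a closed subset is no bigger than the fibre. -/
theorem localDim_le_fibreDimAt {S : Set X} {x : X} (hx : x ∈ S) :
    FlatMor.localDim ↥(S ∩ f ⁻¹' {f x}) ⟨x, hx, rfl⟩ ≤ FlatMor.fibreDimAt f x := by
  rw [FibSemi.fibreDimAt_eq]
  refine le_iInf fun U => ?_
  let k : ↥(S ∩ f ⁻¹' {f x}) → ↥(f ⁻¹' {f x}) := fun z => ⟨z.1, z.2.2⟩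
  have hk : Continuous k := by fun_prop
  refine iInf_le_of_le ⟨⟨k ⁻¹' U.1, U.1.2.preimage hk⟩, U.2⟩ ?_
  exact IsInducing.topologicalKrullDim_le
    (f := fun z : ↥(k ⁻¹' (U.1 : Set ↥(f ⁻¹' {f x}))) => (⟨k z.1, z.2⟩ : ↥(U.1 : Set ↥(f ⁻¹' {f x}))))
    (IsInducing.of_comp (by fun_prop) (continuous_subtype_val.comp continuous_subtype_val)
      ((IsInducing.subtypeVal (t := S ∩ f ⁻¹' {f x})).comp IsInducing.subtypeVal))

end Groth.Agent.EquidimPt
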