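import Groth.Agent.EquidimPt.FieldBase
import Groth.Agent.S3448

/-!
# Irreducible fibres of constant dimension over an arbitrary field
-/

set_option autoImplicit false
set_option linter.style.haveILetI false
universe u
open CategoryTheory CategoryTheory.Limits AlgebraicGeometry

namespace Groth.Agent.EquidimPt.AnyField

open Groth.Agent

theorem components (k : Type u) [Field k]
    {X Y : Scheme.{u}} (qX : X ⟶ Spec (CommRingCat.of k)) (qY : Y ⟶ Spec (CommRingCat.of k))
    [LocallyOfFiniteType qX] [QuasiCompact qX] [LocallyOfFiniteType qY] [QuasiCompact qY]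
    (f : X ⟶ Y) (hf : f ≫ qY = qX) [IrreducibleSpace ↥Y] (d : ℕ)
    (hirr : ∀ y : ↥Y, IsClosed ({y} : Set ↥Y) → IsIrreducible (f.base ⁻¹' {y}))
    (hdim : ∀ y : ↥Y, IsClosed ({y} : Set ↥Y) → topologicalKrullDim ↥(f.base ⁻¹' {y}) = d) :
    (∃! Z : Set ↥X, Z ∈ irreducibleComponents ↥X ∧ Dense (f.base '' Z)) ∧
      ∀ Z ∈ irreducibleComponents ↥X,
        (∀ y : ↥Y, IsClosed ({y} : Set ↥Y) → (f.base ⁻¹' {y} ∩ Z).Nonempty → f.base ⁻¹' {y} ⊆ Z) ∧
        topologicalKrullDim ↥Z = d + topologicalKrullDim ↥(closure (f.base '' Z)) := by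
  subst hf
  haveI : LocallyOfFiniteType f := locallyOfFiniteType_of_comp f qY
  haveI : QuasiCompact f := EquidimPt.quasiCompact_of_field k f (f ≫ qY)
  haveI : IsLocallyNoetherian X := LocallyOfFiniteType.isLocallyNoetherian (f ≫ qY)
  haveI : IsLocallyNoetherian Y := LocallyOfFiniteType.isLocallyNoetherian qY
  haveI : CompactSpace X := QuasiCompact.compactSpace_of_compactSpace (f ≫ qY)
  haveI : CompactSpace Y := QuasiCompact.compactSpace_of_compactSpace qY
  haveI : IsNoetherian X := ⟨⟩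
  haveI : IsNoetherian Y := ⟨⟩
  have hgenmax : FlatOpen.EquiDim.Max (genericPoint Y) := fun z hz =>
    (hz.antisymm (genericPoint_specializes z)).eq
  obtain ⟨m₀, hm₀, hfm₀⟩ := EquidimPt.exists_dominant k f qY d hirr hdim
  have hgenOf : ∀ m : X, FlatOpen.EquiDim.Max m → Dense (f.base '' closure {m}) → f m = genericPoint Y := by
    intro m _ hd
    refine IsGenericPoint.eq ?_ (genericPoint_spec Y)
    have h1 := hd.closure_eq
    rwa [closure_image_closure f.continuous, Set.image_singleton] at h1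
  have hwhole : ∀ m : X, FlatOpen.EquiDim.Max m → ∀ y : ↥Y, IsClosed ({y} : Set ↥Y) →
      (f.base ⁻¹' {y} ∩ closure {m}).Nonempty → f.base ⁻¹' {y} ⊆ closure {m} := by
    rintro m hm y hy ⟨z, hz, hzm⟩
    obtain ⟨c, hfc, -, hmc, hle⟩ := S3448.exists_point f (specializes_iff_mem_closure.2 hzm) hm
    rw [(EquidimPt.component_dim k f qY d hirr hdim hm).2] at hle
    exact (EquidimPt.fibre_subset k f qY d hirr hdim hy (hfc.trans hz) hle).trans
      (closure_minimal (Set.singleton_subset_iff.2 (specializes_iff_mem_closure.1 hmc)) isClosed_closure)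
  refine ⟨⟨closure {m₀}, ⟨FlatOpen.EquiDim.closure_mem_irreducibleComponents hm₀, ?_⟩, ?_⟩, fun Z hZ => ?_⟩
  · refine dense_iff_closure_eq.2 ?_
    rw [closure_image_closure f.continuous, Set.image_singleton, hfm₀]
    exact genericPoint_spec Y
  · rintro Z ⟨hZ, hd⟩
    obtain ⟨m, hm, rfl⟩ := FlatOpen.EquiDim.exists_max_closure_eq hZ
    have hfm := hgenOf m hm hd
    by_contra hne
    have hEc : Topology.IsConstructible (f.base '' closure {m₀}) :=
      f.isConstructible_image (ConstrLib.isConstructible_of_isClosed isClosed_closure)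
    obtain ⟨O, hO, ⟨a, ha, -⟩, hsub⟩ := ConstrLib.exists_open_subset_of_dense_constructible
      (Z := (Set.univ : Set Y)) (IrreducibleSpace.isIrreducible_univ _) hEc (by
        rw [Set.inter_univ, closure_image_closure f.continuous, Set.image_singleton, hfm₀]
        exact (genericPoint_spec Y).symm.subset)
    have hgO : genericPoint Y ∈ O := (genericPoint_specializes a).mem_open hO ha
    have hmnot : m ∉ closure ({m₀} : Set X) := fun h => hne (by
      rw [hm m₀ (specializes_iff_mem_closure.2 h)])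
    obtain ⟨x, hmx, hxW, hx⟩ := EquidimPt.exists_closed_specialization k (f ≫ qY) m
      ⟨f.base ⁻¹' O ∩ (closure {m₀})ᶜ, (hO.preimage f.continuous).inter isClosed_closure.isOpen_compl⟩
      ⟨show f m ∈ O from hfm ▸ hgO, hmnot⟩
    obtain ⟨z, hz, hfz⟩ := hsub ⟨hxW.1, trivial⟩
    refine hxW.2 (hwhole m₀ hm₀ (f x) ?_ ⟨z, hfz, hz⟩ rfl)
    obtain ⟨t, -, hD⟩ := EquidimPt.exists_dimOver_eq k f qY x
    rw [(EquidimPt.dimOver_eq_zero_iff k (f ≫ qY) x).2 hx] at hD
    exact (EquidimPt.dimOver_eq_zero_iff k qY (f x)).1 (by omega)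
  · obtain ⟨m, hm, rfl⟩ := FlatOpen.EquiDim.exists_max_closure_eq hZ
    refine ⟨fun y hy h => hwhole m hm y hy h, ?_⟩
    rw [closure_image_closure f.continuous, Set.image_singleton, EquidimPt.topDim_closure_eq k (f ≫ qY),
      EquidimPt.topDim_closure_eq k qY, (EquidimPt.component_dim k f qY d hirr hdim hm).1, Nat.cast_add,
      add_comm]

theorem irreducible_dim (k : Type u) [Field k]
    {X Y : Scheme.{u}} (qX : X ⟶ Spec (CommRingCat.of k)) (qY : Y ⟶ Spec (CommRingCat.of k))
    [LocallyOfFiniteType qX] [QuasiCompact qX] [LocallyOfFiniteType qY] [QuasiCompact qY]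
    (f : X ⟶ Y) (hf : f ≫ qY = qX) [IrreducibleSpace ↥Y] (hcl : IsClosedMap f.base) (d : ℕ)
    (hirr : ∀ y : ↥Y, IsClosed ({y} : Set ↥Y) → IsIrreducible (f.base ⁻¹' {y}))
    (hdim : ∀ y : ↥Y, IsClosed ({y} : Set ↥Y) → topologicalKrullDim ↥(f.base ⁻¹' {y}) = d) :
    IrreducibleSpace ↥X ∧ topologicalKrullDim ↥X = d + topologicalKrullDim ↥Y := by
  subst hf
  haveI : LocallyOfFiniteType f := locallyOfFiniteType_of_comp f qY
  haveI : QuasiCompact f := EquidimPt.quasiCompact_of_field k f (f ≫ qY)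
  haveI : IsLocallyNoetherian X := LocallyOfFiniteType.isLocallyNoetherian (f ≫ qY)
  haveI : IsLocallyNoetherian Y := LocallyOfFiniteType.isLocallyNoetherian qY
  haveI : CompactSpace X := QuasiCompact.compactSpace_of_compactSpace (f ≫ qY)
  haveI : CompactSpace Y := QuasiCompact.compactSpace_of_compactSpace qY
  haveI : IsNoetherian X := ⟨⟩
  haveI : IsNoetherian Y := ⟨⟩
  have hgenmax : FlatOpen.EquiDim.Max (genericPoint Y) := fun z hz =>
    (hz.antisymm (genericPoint_specializes z)).eq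
  obtain ⟨m₀, hm₀, hfm₀⟩ := EquidimPt.exists_dominant k f qY d hirr hdim
  obtain ⟨-, hall⟩ := components k (f ≫ qY) qY f rfl d hirr hdim
  have huniv : closure ({m₀} : Set X) = Set.univ := by
    refine Set.eq_univ_of_forall fun w => ?_
    by_contra hw
    obtain ⟨x, -, hxW, hx⟩ := EquidimPt.exists_closed_specialization k (f ≫ qY) w
      ⟨(closure {m₀})ᶜ, isClosed_closure.isOpen_compl⟩ hw
    have himg : f.base '' closure {m₀} = Set.univ := by
      refine Set.eq_univ_of_univ_subset ?_
      rw [← (hcl _ isClosed_closure).closure_eq, closure_image_closure f.continuous, Set.image_singleton, hfm₀]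
      exact (genericPoint_spec Y).symm.subset
    obtain ⟨z, hz, hfz⟩ := himg.ge (Set.mem_univ (f x))
    obtain ⟨t, -, hD⟩ := EquidimPt.exists_dimOver_eq k f qY x
    rw [(EquidimPt.dimOver_eq_zero_iff k (f ≫ qY) x).2 hx] at hD
    exact hxW ((hall _ (FlatOpen.EquiDim.closure_mem_irreducibleComponents hm₀)).1 (f x)
      ((EquidimPt.dimOver_eq_zero_iff k qY (f x)).1 (by omega)) ⟨z, hfz, hz⟩ rfl)
  have hgen : ∀ z : X, m₀ ⤳ z := fun z => specializes_iff_mem_closure.2 (huniv.ge trivial)
  haveI hXi : IrreducibleSpace X :=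
    (irreducibleSpace_def _).mpr (by
      show IsIrreducible (Set.univ : Set X)
      rw [← huniv]
      exact isIrreducible_singleton.closure)
  refine ⟨hXi, ?_⟩
  have hX : topologicalKrullDim X = EquidimPt.dimOver k (f ≫ qY) m₀ := by
    rw [EquidimPt.topDim_eq_iSup k (f ≫ qY)]
    exact le_antisymm (iSup_le fun z => Nat.cast_le.2 (EquidimPt.dimOver_le k (f ≫ qY) (hgen z)))
      (le_iSup (fun z : X => (EquidimPt.dimOver k (f ≫ qY) z : WithBot ℕ∞)) m₀)
  have hY : topologicalKrullDim Y = EquidimPt.dimOver k qY (genericPoint Y) := by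
    rw [EquidimPt.topDim_eq_iSup k qY]
    exact le_antisymm (iSup_le fun z => Nat.cast_le.2 (EquidimPt.dimOver_le k qY (genericPoint_specializes z)))
      (le_iSup (fun z : Y => (EquidimPt.dimOver k qY z : WithBot ℕ∞)) (genericPoint Y))
  rw [hX, hY, (EquidimPt.component_dim k f qY d hirr hdim hm₀).1, hfm₀, Nat.cast_add, add_comm]

end Groth.Agent.EquidimPt.AnyField
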