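import Groth.Agent.EquidimPt.Basic
import Groth.Agent.SecDim.DimConstr
import Groth.Agent.RedSub.Basic

/-!
Components of a source which are equidimensional at a point (condition (T) of EGA IV 14.4).
-/

set_option autoImplicit false
set_option linter.style.haveILetI false
universe u
open CategoryTheory AlgebraicGeometry Limits Topology TopologicalSpace IsLocalRing

noncomputable section

namespace Groth.Agent.EquidimPt

variable {X Y : Scheme.{u}}

/-- A universally open point has generizations over every generization, with fibres at least as big. -/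
theorem exists_gen_dim_specializes (f : X ⟶ Y) [LocallyOfFiniteType f] {ξ : X}
    (hξ : EGA43.IsUnivOpenAt f ξ) (hmax : ∀ z, f z = f ξ → z ⤳ ξ → z = ξ) {y' : Y} (hy : y' ⤳ f ξ) :
    ∃ z, f z = y' ∧ z ⤳ ξ ∧ FlatMor.fibreDimAt f ξ ≤ FlatMor.fibreDimAt f z := by
  obtain ⟨U, hU, hyU, -⟩ := exists_isAffineOpen_mem_and_subset (x := f ξ) (U := ⊤) trivial
  obtain ⟨p₁, hp₁⟩ : f ξ ∈ Set.range hU.fromSpec := by rw [hU.range_fromSpec]; exact hyU
  obtain ⟨p₀, rfl⟩ : y' ∈ Set.range hU.fromSpec := by rw [hU.range_fromSpec]; exact hy.mem_open U.2 hyU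
  have hpq : p₀.asIdeal ≤ p₁.asIdeal :=
    (PrimeSpectrum.le_iff_specializes p₀ p₁).mpr
      (hU.fromSpec.isOpenEmbedding.isInducing.specializes_iff.mp (hp₁.symm ▸ hy))
  let K := p₀.asIdeal.ResidueField
  let gK : Γ(Y, U) →+* K := algebraMap Γ(Y, U) K
  have hgk : RingHom.ker gK = p₀.asIdeal := Ideal.ker_algebraMap_residueField _
  obtain ⟨V, g', hg', hker⟩ := EtaPtLib.exists_valuationSubring gK p₁ (le_of_eq_of_le hgk hpq)
  let T := Spec (CommRingCat.of V)
  let b : T ⟶ Y := Spec.map (CommRingCat.ofHom g') ≫ hU.fromSpec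
  let c : ↥T := IsLocalRing.closedPoint V
  let η : ↥T := genericPoint T
  have hbc : b c = f ξ := by
    rw [← hp₁]
    show hU.fromSpec (PrimeSpectrum.comap g' (IsLocalRing.closedPoint V)) = _
    refine congrArg hU.fromSpec (PrimeSpectrum.ext ?_)
    show (IsLocalRing.maximalIdeal V).comap g' = p₁.asIdeal
    rw [← hker, ← RingHom.comap_ker, IsLocalRing.ker_residue]
  have hbη : b η = hU.fromSpec p₀ := by
    show hU.fromSpec (PrimeSpectrum.comap g' (genericPoint T)) = _
    refine congrArg hU.fromSpec (PrimeSpectrum.ext ?_)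
    have h0 : (genericPoint T : PrimeSpectrum V).asIdeal = ⊥ :=
      congrArg PrimeSpectrum.asIdeal (genericPoint_eq_bot_of_affine (CommRingCat.of V))
    show (genericPoint T : PrimeSpectrum V).asIdeal.comap g' = p₀.asIdeal
    rw [h0, ← RingHom.ker_eq_comap_bot]
    refine Eq.trans ?_ hgk
    rw [← hg']
    exact (RingHom.ker_comp_of_injective g' Subtype.val_injective).symm
  let q := pullback.snd f b
  have hpb : IsPullback (pullback.fst f b) q f b := IsPullback.of_hasPullback f b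
  haveI : LocallyOfFiniteType q := MorphismProperty.of_isPullback hpb inferInstance
  obtain ⟨ξ₁, hξ₁, hξ₁c⟩ := Scheme.exists_preimage_of_isPullback hpb ξ c hbc.symm
  -- a maximal point of the special fibre above `ξ`
  obtain ⟨ξ', hξ'ξ, hqξ', hξ'm, -, -, -, -, -, -, -, -⟩ := FibSemi.exists_max_fibre q ξ₁
  have hξ'c : q ξ' = c := hqξ'.trans hξ₁c
  have hpξ' : pullback.fst f b ξ' = ξ := by
    refine hmax _ ?_ ?_
    · rw [← Scheme.Hom.comp_apply, hpb.w, Scheme.Hom.comp_apply, hξ'c, hbc]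
    · rw [← hξ₁]
      exact hξ'ξ.map (pullback.fst f b).continuous
  have hopen := OpenAt.isUnivOpenAt_of_isPullback hξ hpb ξ' hpξ'
  obtain ⟨z, hzξ, hqz, hzm⟩ := GUOpen.exists_gen_of_isOpenAt q (GUOpen.isOpenAt_of_univ q hopen)
    (y' := η) (genericPoint_specializes _)
  refine ⟨pullback.fst f b z, ?_, hpξ' ▸ hzξ.map (pullback.fst f b).continuous, ?_⟩
  · rw [← Scheme.Hom.comp_apply, hpb.w, Scheme.Hom.comp_apply, hqz, hbη]
  rw [← hpξ', ← AlgSpD.fibreDimAt_of_isPullback f hpb, ← AlgSpD.fibreDimAt_of_isPullback f hpb,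
    GUOpen.fibreDimAt_of_max q (fun w hw => hξ'm w (hw.trans hqξ')),
    GUOpen.fibreDimAt_of_max q (fun w hw => hzm w (hw.trans hqz))]
  exact SecDim.krullDim_le_generic q hqz hzξ


/-- Specializations within fibres are the same in a closed subscheme. -/
theorem specs_closedImmersion {Z : Scheme.{u}} (i : Z ⟶ X) [IsClosedImmersion i] (f : X ⟶ Y) (a : Z) :
    Order.krullDim {w : Z | (i ≫ f) w = (i ≫ f) a ∧ a ⤳ w} = Order.krullDim {w : X | f w = f (i a) ∧ i a ⤳ w} := by
  have hiff : ∀ a b : Z, i a ⤳ i b ↔ a ⤳ b := fun a b => i.isEmbedding.specializes_iff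
  refine FibSemi.krullDim_eq_of_embedding i (fun a b => hiff b a) i.isEmbedding.injective _ _ fun w => ⟨fun hw => ?_, ?_⟩
  · obtain ⟨w', rfl⟩ := hw.2.mem_closed i.isClosedEmbedding.isClosed_range (Set.mem_range_self a)
    exact ⟨w', ⟨hw.1, (hiff _ _).1 hw.2⟩, rfl⟩
  · rintro ⟨w', hw', rfl⟩
    exact ⟨hw'.1, hw'.2.map i.continuous⟩

theorem le_fibreDimAt (f : X ⟶ Y) [LocallyOfFiniteType f] (a : X) :
    Order.krullDim {w : X | f w = f a ∧ a ⤳ w} ≤ FlatMor.fibreDimAt f a := by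
  obtain ⟨n, t, -, -, ht, -, hfd⟩ := fibre_facts f a
  rw [ht, hfd]
  exact Nat.cast_le.mpr (Nat.le_add_left t n)

theorem fibreDimAt_closedImmersion_le {Z : Scheme.{u}} (i : Z ⟶ X) [IsClosedImmersion i] (f : X ⟶ Y)
    [LocallyOfFiniteType f] (a : Z) : FlatMor.fibreDimAt (i ≫ f) a ≤ FlatMor.fibreDimAt f (i a) := by
  obtain ⟨c, hca, -, -, -, -, e', -, -, hfd, hc, -⟩ := FibSemi.exists_max_fibre (i ≫ f) a
  rw [hfd, ← hc, specs_closedImmersion i f c]
  exact (le_fibreDimAt f _).trans (fibreDimAt_mono f (hca.map i.continuous))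

theorem fibreDimAt_of_max (f : X ⟶ Y) [LocallyOfFiniteType f] {a : X} (ha : FlatOpen.EquiDim.Max a) :
    FlatMor.fibreDimAt f a = Order.krullDim {w : X | f w = f a ∧ a ⤳ w} := by
  obtain ⟨n, t, -, hn, ht, -, hfd⟩ := fibre_facts f a
  rw [dim_zero_of_fMax f (fun z hz _ => ha z hz)] at hn
  rw [hfd, ht, show n = 0 from Nat.cast_eq_zero.mp hn.symm, zero_add]

/-- Equidimensional at a point of an irreducible scheme. -/
theorem facts_of_isEquidimAt_irreducible (g : X ⟶ Y) [LocallyOfFiniteType g] {η w : X} (hgen : ∀ z, η ⤳ z)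
    (h : EGA43.IsEquidimAt g w) :
    FlatOpen.EquiDim.Max (g η) ∧ FlatMor.fibreDimAt g w ≤ FlatMor.fibreDimAt g η := by
  obtain ⟨e, U, hwU, hcomp, hdim⟩ := h
  let g₀ := U.ι ≫ g
  have hrel : Cyc.HasRelDim g₀ e := fun y T hT => by
    obtain ⟨t, -⟩ := hT.1.1
    have hy : g₀ (g₀.fiberι y t) = y := (g₀.range_fiberι y).le (Set.mem_range_self t)
    generalize g₀.fiberι y t = a at hy
    subst hy
    exact hdim a T hT
  have hfib : ∀ a : U.toScheme, FlatMor.fibreDimAt g (U.ι a) = e := fun a => by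
    rw [← AlgSpD.fibreDimAt_inv U.ι (𝟙 Y) g₀ g (by rw [Category.comp_id]) a]
    exact FlatOpen.EquiDim.fibreDimAt_eq_of_hasRelDim g₀ hrel a
  let η' : U.toScheme := ⟨η, (hgen w).mem_open U.isOpen hwU⟩
  have hmax : FlatOpen.EquiDim.Max η := fun z hz => (hz.antisymm (hgen z)).eq
  refine ⟨?_, ((hfib ⟨w, hwU⟩).trans (hfib η').symm).le⟩
  obtain ⟨W, hW, -, hcl⟩ := hcomp (closure {η'})
    (FlatOpen.EquiDim.closure_mem_irreducibleComponents (X := U.toScheme) fun z hz =>
      Subtype.ext (hmax _ (hz.map U.ι.continuous)))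
  erw [closure_image_closure g₀.continuous, Set.image_singleton] at hcl
  obtain ⟨m, hm, hmW⟩ := FlatOpen.EquiDim.exists_max_closure_eq hW
  have he : m = g η :=
    (hmW ▸ isGenericPoint_closure : IsGenericPoint m W).eq (hcl ▸ isGenericPoint_closure : IsGenericPoint _ W)
  exact he ▸ hm

/-- Conversely, over any base. -/
theorem isEquidimAt_irreducible (g : X ⟶ Y) [LocallyOfFiniteType g] {η w : X} (hgen : ∀ z, η ⤳ z)
    (hη : FlatOpen.EquiDim.Max (g η)) (hle : FlatMor.fibreDimAt g w ≤ FlatMor.fibreDimAt g η) :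
    EGA43.IsEquidimAt g w := by
  obtain ⟨n, t, -, -, -, -, hfd⟩ := fibre_facts g η
  let U : X.Opens := ⟨_, FlatMisc.FibreDimScheme.isOpen_fibreDimAt_le g (n + t)⟩
  have hrel : Cyc.HasRelDim (U.ι ≫ g) (n + t) := by
    refine (FlatOpen.EquiDim.hasRelDim_iff_trdeg _ _).2 fun a ha =>
      FlatOpen.EquiDim.fibreDimAt_eq_trdeg _ ha ?_
    rw [AlgSpD.fibreDimAt_inv U.ι (𝟙 Y) (U.ι ≫ g) g (by rw [Category.comp_id]) a]
    exact le_antisymm a.2 (hfd ▸ fibreDimAt_mono g (hgen _))
  refine ⟨n + t, U, hle.trans hfd.le, fun Z hZ => ?_, fun a Z hZ => hrel _ Z hZ⟩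
  obtain ⟨ξ, hξ, rfl⟩ := FlatOpen.EquiDim.exists_max_closure_eq (X := U.toScheme) hZ
  let η' : U.toScheme := ⟨η, hfd.le⟩
  have hξη : U.ι ξ = η :=
    (congrArg U.ι (hξ η' (U.ι.isEmbedding.specializes_iff.1 (hgen _)))).symm
  refine ⟨closure {g η}, FlatOpen.EquiDim.closure_mem_irreducibleComponents hη,
    specializes_iff_mem_closure.1 ((hgen w).map g.continuous), ?_⟩
  erw [closure_image_closure (U.ι ≫ g).continuous, Set.image_singleton]
  rw [Scheme.Hom.comp_apply, hξη]

/-- A component through `x` whose generic fibre is as big as the fibre at `x`. -/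
theorem exists_component (f : X ⟶ Y) [LocallyOfFiniteType f] {m x : X} (hmx : m ⤳ x)
    (hm : FlatOpen.EquiDim.Max m) (hfm : FlatOpen.EquiDim.Max (f m))
    (hle : FlatMor.fibreDimAt f x ≤ FlatMor.fibreDimAt f m) :
    ∃ W : Closeds X, (W : Set X) ∈ irreducibleComponents (X : Type u) ∧
      ∃ w : ↥((Scheme.IdealSheafData.vanishingIdeal W).subscheme),
        (Scheme.IdealSheafData.vanishingIdeal W).subschemeι.base w = x ∧
        EGA43.IsEquidimAt ((Scheme.IdealSheafData.vanishingIdeal W).subschemeι ≫ f) w := by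
  refine ⟨⟨closure {m}, isClosed_closure⟩, FlatOpen.EquiDim.closure_mem_irreducibleComponents hm, ?_⟩
  let i := (Scheme.IdealSheafData.vanishingIdeal (⟨closure {m}, isClosed_closure⟩ : Closeds X)).subschemeι
  have hr : Set.range i = closure {m} := RedSub.range_vanishingIdeal_subschemeι _
  obtain ⟨w, hw⟩ : x ∈ Set.range i := hr.ge (specializes_iff_mem_closure.1 hmx)
  obtain ⟨η, hη⟩ : m ∈ Set.range i := hr.ge (subset_closure rfl)
  have hgen : ∀ z, η ⤳ z := fun z => i.isEmbedding.specializes_iff.1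
    (by rw [hη, specializes_iff_mem_closure]; exact hr.le (Set.mem_range_self z))
  refine ⟨w, hw, isEquidimAt_irreducible (i ≫ f) hgen (by rw [Scheme.Hom.comp_apply, hη]; exact hfm) ?_⟩
  rw [fibreDimAt_of_max (i ≫ f) (fun z hz => (hz.antisymm (hgen z)).eq), specs_closedImmersion, hη,
    ← fibreDimAt_of_max f hm]
  exact (fibreDimAt_closedImmersion_le i f w).trans (hw ▸ hle)

end Groth.Agent.EquidimPt
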