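import Groth.Agent.EquidimPt.DimSum
import Groth.Agent.GUOpen.Converse
import Groth.Agent.GUOpen.Crit
import Groth.Agent.SecDim.Open
import Groth.Agent.SecDim.DimConstr
import Groth.Agent.ConstrLib.Basic

/-!
The dimension of the fibres as a function on the base, for morphisms open along a fibre.
-/

set_option autoImplicit false
universe u
open CategoryTheory AlgebraicGeometry Limits Topology TopologicalSpace

noncomputable section

namespace Groth.Agent.EquidimPt

variable {X Y : Scheme.{u}}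

theorem isLocallyConstructible_of_isOpen_noetherian [IsLocallyNoetherian X] {O : Set X} (hO : IsOpen O) :
    IsLocallyConstructible O := by
  intro x
  obtain ⟨U, hU, hxU, -⟩ := exists_isAffineOpen_mem_and_subset (x := x) (U := (⊤ : X.Opens)) trivial
  refine ⟨U, U.isOpen.mem_nhds hxU, U.isOpen, ?_⟩
  haveI : IsAffine U.toScheme := hU
  haveI : IsLocallyNoetherian U.toScheme := isLocallyNoetherian_of_isOpenImmersion U.ι
  haveI : IsNoetherian U.toScheme := {}
  exact (NoetherianSpace.isCompact (U.ι ⁻¹' O)).isConstructible (hO.preimage U.ι.continuous)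

theorem isLocallyConstructible_of_isClosed_noetherian [IsLocallyNoetherian X] {C : Set X} (hC : IsClosed C) :
    IsLocallyConstructible C := by
  intro x
  obtain ⟨U, hU, hnU, h3⟩ := isLocallyConstructible_of_isOpen_noetherian hC.isOpen_compl x
  refine ⟨U, hU, hnU, ?_⟩
  have h4 := h3.compl
  rwa [Set.preimage_compl, compl_compl] at h4

/-- An irreducible component of a fibre and its generic point in the source. -/
theorem exists_generic_of_component (f : X ⟶ Y) {y : Y} {Z : Set ↥(f.fiber y)}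
    (hZ : Z ∈ irreducibleComponents ↥(f.fiber y)) :
    ∃ ζ : ↥(f.fiber y), IsGenericPoint ζ Z ∧ f (f.fiberι y ζ) = y ∧
      (∀ w, f w = y → w ⤳ f.fiberι y ζ → w = f.fiberι y ζ) ∧
      topologicalKrullDim ↥Z = Order.krullDim {w : X | f w = y ∧ f.fiberι y ζ ⤳ w} := by
  obtain ⟨ζ, hζ⟩ := QuasiSober.sober hZ.1 (isClosed_of_mem_irreducibleComponents Z hZ)
  have hfz : f (f.fiberι y ζ) = y := (f.range_fiberι y).le (Set.mem_range_self ζ)
  refine ⟨ζ, hζ, hfz, fun w hw hwz => ?_, ?_⟩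
  · obtain ⟨v, rfl⟩ : w ∈ Set.range (f.fiberι y) := by rw [f.range_fiberι]; exact hw
    exact congrArg _ (QSect.max_of_component hZ hζ v ((f.fiberι y).isEmbedding.specializes_iff.1 hwz))
  · have hZimg : f.fiberι y '' Z = closure {f.fiberι y ζ} ∩ f.base ⁻¹' {y} := by
      refine Set.Subset.antisymm ?_ ?_
      · rintro _ ⟨v, hv, rfl⟩
        exact ⟨specializes_iff_mem_closure.1 ((hζ.specializes hv).map (f.fiberι y).continuous),
          (f.range_fiberι y).le (Set.mem_range_self v)⟩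
      · rintro w ⟨hwz, hw⟩
        obtain ⟨v, rfl⟩ : w ∈ Set.range (f.fiberι y) := by rw [f.range_fiberι]; exact hw
        exact ⟨v, ((f.fiberι y).isEmbedding.specializes_iff.1 (specializes_iff_mem_closure.2 hwz)).mem_closed
          (isClosed_of_mem_irreducibleComponents Z hZ) hζ.mem, rfl⟩
    rw [← FibSemi.topDim_closure_inter_fibre_eq, ← show _ = closure {f.fiberι y ζ} ∩ f.base ⁻¹' {y} from hZimg]
    exact (((f.fiberι y).isEmbedding.homeomorphImage Z).isHomeomorph.topologicalKrullDim_eq)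

/-- A maximal point of a fibre spans a component. -/
theorem exists_component_of_max (f : X ⟶ Y) {y : Y} {z : X} (hz : f z = y)
    (hmax : ∀ w, f w = y → w ⤳ z → w = z) :
    ∃ Z ∈ irreducibleComponents ↥(f.fiber y),
      topologicalKrullDim ↥Z = Order.krullDim {w : X | f w = y ∧ z ⤳ w} := by
  obtain ⟨ζ, hζ⟩ : z ∈ Set.range (f.fiberι y) := by rw [f.range_fiberι]; exact hz
  subst hζ
  have hZ : closure {ζ} ∈ irreducibleComponents ↥(f.fiber y) :=
    FlatOpen.EquiDim.closure_mem_irreducibleComponents fun v hv => (f.fiberι y).isEmbedding.injective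
      (hmax _ ((f.range_fiberι y).le (Set.mem_range_self v)) (hv.map (f.fiberι y).continuous))
  refine ⟨_, hZ, ?_⟩
  obtain ⟨ζ', hζ', -, -, h⟩ := exists_generic_of_component f hZ
  obtain rfl : ζ' = ζ := hζ'.eq isGenericPoint_closure
  exact h

/-- The dimension of a fibre is bounded by the local fibre dimensions. -/
theorem topDim_fiber_le_iff (f : X ⟶ Y) [LocallyOfFiniteType f] (y : Y) (n : WithBot ℕ∞) :
    topologicalKrullDim ↥(f.fiber y) ≤ n ↔ ∀ x, f x = y → FlatMor.fibreDimAt f x ≤ n := by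
  refine ⟨fun h x hx => ?_, fun h => topDim_le_of_components fun Z hZ => ?_⟩
  · subst hx
    exact (fibreDimAt_le_topDim_fiber f x).trans h
  · obtain ⟨ζ, -, hfz, hmax, hdim⟩ := exists_generic_of_component f hZ
    rw [hdim]
    have h1 := h _ hfz
    rw [GUOpen.fibreDimAt_of_max f (fun w hw => hmax w (hw.trans hfz)), hfz] at h1
    exact h1

theorem natCast_le_topDim_fiber (f : X ⟶ Y) [LocallyOfFiniteType f] {y : Y} {d : ℕ}
    (h : (d : WithBot ℕ∞) ≤ topologicalKrullDim ↥(f.fiber y)) :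
    ∃ c : X, f c = y ∧ (∀ w, f w = y → w ⤳ c → w = c) ∧ (d : WithBot ℕ∞) ≤ FlatMor.fibreDimAt f c := by
  have hne : Nonempty ↥(f.fiber y) := by
    by_contra hne
    haveI := not_nonempty_iff.mp hne
    haveI : IsEmpty (IrreducibleCloseds ↥(f.fiber y)) := ⟨fun C => IsEmpty.false C.isIrreducible'.nonempty.some⟩
    rw [show topologicalKrullDim ↥(f.fiber y) = ⊥ from Order.krullDim_eq_bot] at h
    exact absurd (le_bot_iff.mp h) (WithBot.coe_ne_bot (a := (d : ℕ∞)))
  suffices h' : ∃ x, f x = y ∧ (d : WithBot ℕ∞) ≤ FlatMor.fibreDimAt f x by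
    obtain ⟨x, hx, hd⟩ := h'
    obtain ⟨c, -, hfc, hcmax, -, -, e, -, -, hfd, hc, -⟩ := FibSemi.exists_max_fibre f x
    refine ⟨c, hfc.trans hx, fun w hw => hcmax w (hw.trans hx.symm), ?_⟩
    rw [GUOpen.fibreDimAt_of_max f (fun w hw => hcmax w (hw.trans hfc)), hc, ← hfd]
    exact hd
  obtain ⟨t⟩ := hne
  rcases Nat.eq_zero_or_pos d with rfl | hd
  · refine ⟨f.fiberι y t, (f.range_fiberι y).le (Set.mem_range_self t), ?_⟩
    obtain ⟨a, b, -, -, hfd⟩ := FibSemi.fibreDimAt_eq_add f (f.fiberι y t)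
    rw [hfd]
    exact_mod_cast Nat.zero_le _
  by_contra hcon
  push Not at hcon
  refine absurd (h.trans ((topDim_fiber_le_iff f y ((d - 1 : ℕ) : WithBot ℕ∞)).2 fun x hx => ?_)) ?_
  · obtain ⟨a, b, -, -, hfd⟩ := FibSemi.fibreDimAt_eq_add f x
    have h1 := hcon x hx
    rw [hfd] at h1 ⊢
    have h2 : a + b < d := by exact_mod_cast h1
    exact_mod_cast (by omega : a + b ≤ d - 1)
  · intro h1
    have h2 : d ≤ d - 1 := by exact_mod_cast h1
    omega

/-- The dimension of a fibre of a quasi-compact morphism is a natural number or `⊥`. -/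
theorem topDim_fiber_finite (f : X ⟶ Y) [LocallyOfFiniteType f] [QuasiCompact f] (y : Y) :
    IsEmpty ↥(f.fiber y) ∨ ∃ d : ℕ, topologicalKrullDim ↥(f.fiber y) = d := by
  rcases isEmpty_or_nonempty ↥(f.fiber y) with h | ⟨⟨t⟩⟩
  · exact Or.inl h
  right
  let F := Set.range (f.fiberι y)
  have hF : IsCompact F := isCompact_range (f.fiberι y).continuous
  obtain ⟨s, hs⟩ := hF.elim_finite_subcover (fun n : ℕ => {x : X | FlatMor.fibreDimAt f x ≤ (n : WithBot ℕ∞)})
    (fun n => FlatMisc.FibreDimScheme.isOpen_fibreDimAt_le (f := f) n) (fun x _ => by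
      obtain ⟨a, b, -, -, hfd⟩ := FibSemi.fibreDimAt_eq_add f x
      exact Set.mem_iUnion.2 ⟨a + b, hfd.le⟩)
  have hle : topologicalKrullDim ↥(f.fiber y) ≤ (s.sup id : ℕ) := (topDim_fiber_le_iff f y _).2 fun x hx => by
    obtain ⟨n, hn, hxn⟩ := Set.mem_iUnion₂.1 (hs ((f.range_fiberι y).ge hx))
    exact le_trans (show FlatMor.fibreDimAt f x ≤ n from hxn) (by exact_mod_cast Finset.le_sup (f := id) hn)
  obtain ⟨a, b, -, -, hfd⟩ := FibSemi.fibreDimAt_eq_add f (f.fiberι y t)
  have hge := fibreDimAt_le_topDim_fiber f (f.fiberι y t)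
  rw [hfd, show f (f.fiberι y t) = y from (f.range_fiberι y).le (Set.mem_range_self t)] at hge
  generalize topologicalKrullDim ↥(f.fiber y) = D at hle hge ⊢
  cases D with
  | bot => exact absurd (le_bot_iff.mp hge) (WithBot.coe_ne_bot (a := ((a + b : ℕ) : ℕ∞)))
  | coe D =>
    obtain ⟨m, rfl⟩ := ENat.ne_top_iff_exists.mp
      (ne_top_of_le_ne_top (ENat.natCast_ne_top _) (WithBot.coe_le_coe.mp hle))
    exact ⟨m, rfl⟩

/-- A big fibre dimension spreads to a neighbourhood, from openness at a maximal point of the fibre. -/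
theorem image_mem_nhds_of_isOpenAt [IsLocallyNoetherian Y] (f : X ⟶ Y) [LocallyOfFiniteType f] [QuasiCompact f]
    {y : Y} {z : X} (hz : f z = y) (hmax : ∀ w, f w = y → w ⤳ z → w = z) (hopen : EGA43.IsOpenAt f.base z)
    {d : ℕ} (hd : (d : WithBot ℕ∞) ≤ FlatMor.fibreDimAt f z) (U : X.Opens) (hzU : z ∈ U) :
    f.base '' {x | x ∈ U ∧ (d : WithBot ℕ∞) ≤ FlatMor.fibreDimAt f x} ∈ nhds y := by
  haveI : IsLocallyNoetherian X := LocallyOfFiniteType.isLocallyNoetherian f
  haveI : LocallyOfFinitePresentation f := LocallyOfFinitePresentation.iff_locallyOfFiniteType.mpr inferInstance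
  have hC : IsLocallyConstructible {x : X | x ∈ U ∧ (d : WithBot ℕ∞) ≤ FlatMor.fibreDimAt f x} := by
    refine (isLocallyConstructible_of_isOpen_noetherian U.isOpen).inter ?_
    haveI : QuasiSeparated f := inferInstance
    exact SecDim.isLocallyConstructible_fibreDim_ge f d
  refine SecDim.mem_nhds_of_generizations (f.isLocallyConstructible_image hC) fun y' hy' => ?_
  obtain ⟨c, hcz, hfc, hcmax, hle⟩ := GUOpen.exists_gen_dim_of_isOpenAt f hopen
    (fun w hw => hmax w (hw.trans hz)) (hz.symm ▸ hy')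
  refine ⟨c, ⟨hcz.mem_open U.isOpen hzU, ?_⟩, hfc⟩
  rw [GUOpen.fibreDimAt_of_max f (fun w hw => hcmax w (hw.trans hfc))]
  exact hd.trans hle

/-- Openness along a fibre bounds its dimension by that of the fibres over generizations. -/
theorem topDim_fiber_le_of_isOpenAt [IsLocallyNoetherian Y] (f : X ⟶ Y) [LocallyOfFiniteType f]
    {y y' : Y} (hy' : y' ⤳ y) (h : ∀ x : X, f x = y → EGA43.IsOpenAt f.base x) :
    topologicalKrullDim ↥(f.fiber y) ≤ topologicalKrullDim ↥(f.fiber y') := by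
  refine topDim_le_of_components fun Z hZ => ?_
  obtain ⟨ζ, -, hfz, hmax, hdim⟩ := exists_generic_of_component f hZ
  obtain ⟨c, hcz, hfc, hcmax, hle⟩ := GUOpen.exists_gen_dim_of_isOpenAt f (h _ hfz)
    (fun w hw => hmax w (hw.trans hfz)) (y' := y') (by rw [hfz]; exact hy')
  rw [GUOpen.fibreDimAt_of_max f (fun w hw => hmax w (hw.trans hfz)), hfz] at hle
  refine hdim.le.trans (hle.trans ?_)
  rw [← GUOpen.fibreDimAt_of_max f (fun w hw => hcmax w (hw.trans hfc))]
  exact hfc ▸ fibreDimAt_le_topDim_fiber f c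

end Groth.Agent.EquidimPt

namespace Groth.Agent.EquidimPt

variable {X Y : Scheme.{u}}

/-- A maximal point of a fibre has, in any neighbourhood, a specialization in the fibre seeing only it. -/
theorem exists_only_max (f : X ⟶ Y) [LocallyOfFiniteType f] {y : Y} {z : X} (hz : f z = y)
    (hmax : ∀ w, f w = y → w ⤳ z → w = z) :
    ∃ x, f x = y ∧ z ⤳ x ∧ FlatMor.fibreDimAt f x = FlatMor.fibreDimAt f z := by
  obtain ⟨V, hV, hzV, -⟩ := exists_isAffineOpen_mem_and_subset (x := z) (U := (⊤ : X.Opens)) trivial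
  obtain ⟨M, hM, hMmax, hMgen⟩ := GUOpen.exists_finite_max f V hV.isCompact y
  let C : Set X := ⋃ c ∈ {c ∈ M | c ≠ z}, closure {c}
  have hC : IsClosed C := (hM.subset (Set.sep_subset M _)).isClosed_biUnion fun _ _ => isClosed_closure
  have hzC : z ∉ C := fun hz' => by
    obtain ⟨c, hc, hcz⟩ := Set.mem_iUnion₂.mp hz'
    exact hc.2 (hmax c (hMmax c hc.1).2.1 (specializes_iff_mem_closure.mpr hcz))
  obtain ⟨x, hx, hzx, hfx, -⟩ := FibSemi.exists_closed_in_fibre f z (V ⊓ ⟨Cᶜ, hC.isOpen_compl⟩) ⟨hzV, hzC⟩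
  refine ⟨x, hfx.trans hz, hzx, ?_⟩
  obtain ⟨c₀, hc₀x, hfc₀, hc₀max, -, -, e, -, -, hfd, hc₀, -⟩ := FibSemi.exists_max_fibre f x
  have hfxy : f x = y := hfx.trans hz
  obtain ⟨c₁, hc₁, hc₁c⟩ := hMgen c₀ (hc₀x.mem_open V.2 hx.1) (hfc₀.trans hfxy)
  obtain rfl : c₁ = c₀ := hc₀max c₁ ((hMmax c₁ hc₁).2.1.trans hfxy.symm) hc₁c
  have hcz0 : c₁ = z := by
    by_contra hne
    exact hx.2 (Set.mem_iUnion₂.mpr ⟨c₁, ⟨hc₁, hne⟩, specializes_iff_mem_closure.1 hc₀x⟩)
  rw [GUOpen.fibreDimAt_of_max f (fun w hw => hmax w (hw.trans hz)), hfd, ← hc₀, hcz0]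

/-- Openness at a maximal point of a fibre: a component of the same dimension over any generization. -/
theorem exists_component_same_dim [IsLocallyNoetherian Y] (f : X ⟶ Y) [LocallyOfFiniteType f] {y y' : Y}
    (hy' : y' ⤳ y) {Z : Set ↥(f.fiber y)} (hZ : Z ∈ irreducibleComponents ↥(f.fiber y))
    (h : ∀ x : X, f x = y → EGA43.IsOpenAt f.base x) :
    ∃ Z' ∈ irreducibleComponents ↥(f.fiber y'), topologicalKrullDim ↥Z' = topologicalKrullDim ↥Z := by
  obtain ⟨ζ, -, hfz, hmax, hdim⟩ := exists_generic_of_component f hZ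
  obtain ⟨c, hcz, hfc, hcmax, hle⟩ := GUOpen.exists_gen_dim_of_isOpenAt f (h _ hfz)
    (fun w hw => hmax w (hw.trans hfz)) (y' := y') (by rw [hfz]; exact hy')
  obtain ⟨Z', hZ', hdim'⟩ := exists_component_of_max f hfc hcmax
  obtain ⟨x, -, hzx, hx⟩ := exists_only_max f hfz hmax
  refine ⟨Z', hZ', ?_⟩
  have hm := fibreDimAt_mono f (hcz.trans hzx)
  rw [hx, GUOpen.fibreDimAt_of_max f (fun w hw => hcmax w (hw.trans hfc)),
    GUOpen.fibreDimAt_of_max f (fun w hw => hmax w (hw.trans hfz)), hfc, hfz] at hm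
  rw [GUOpen.fibreDimAt_of_max f (fun w hw => hmax w (hw.trans hfz)), hfz, hfc] at hle
  rw [hdim', hdim]
  exact le_antisymm hm hle

end Groth.Agent.EquidimPt
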