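import Groth.Agent.EquidimPt.Basic
import Groth.Agent.S9359
import Groth.Agent.AlgSpD.EtaleTop
import Groth.Agent.Omega.SmoothFibreDim

/-! Dimension of the source of a flat map with fibres of constant dimension near a point. -/

set_option autoImplicit false
set_option linter.style.haveILetI false
universe u
open CategoryTheory AlgebraicGeometry Limits Topology

namespace Groth.Agent.EquidimPt

variable {X Y : Scheme.{u}}

theorem localDim_eq_add_of_flat [IsLocallyNoetherian X] [IsLocallyNoetherian Y] (f : X ⟶ Y) [Flat f]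
    [LocallyOfFiniteType f] (x : X) (d : ℕ) (O : X.Opens) (hx : x ∈ O)
    (hd : ∀ z ∈ O, FlatMor.fibreDimAt f z = d) :
    FlatMor.localDim ↥X x = FlatMor.localDim ↥Y (f x) + (d : WithBot ℕ∞) := by
  haveI : IsLocallyNoetherian O.toScheme := isLocallyNoetherian_of_isOpenImmersion O.ι
  have hrel : Cyc.HasRelDim (O.ι ≫ f) d := (FlatOpen.EquiDim.hasRelDim_iff_trdeg _ _).2 fun a ha =>
    FlatOpen.EquiDim.fibreDimAt_eq_trdeg _ ha (by
      rw [AlgSpD.fibreDimAt_inv O.ι (𝟙 Y) (O.ι ≫ f) f (by rw [Category.comp_id]) a]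
      exact hd _ a.2)
  have h := S9359.result (O.ι ≫ f) d hrel ⟨x, hx⟩
  rw [← AlgSpD.localDim_apply_eq O.ι] at h
  exact h

/-- The fibre dimension of a smooth morphism is locally constant. -/
theorem exists_nhd_smooth (f : X ⟶ Y) [Smooth f] (x : X) :
    ∃ (O : X.Opens) (d : ℕ), x ∈ O ∧ ∀ z ∈ O, FlatMor.fibreDimAt f z = d := by
  obtain ⟨U, hU, V, hV, hx, e, hf⟩ := Smooth.exists_isStandardSmooth (f := f) x
  letI := (f.appLE U V e).hom.toAlgebra
  haveI : Algebra.IsStandardSmooth Γ(Y, U) Γ(X, V) := hf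
  refine ⟨V, Module.finrank Γ(X, V) Ω[Γ(X, V)⁄Γ(Y, U)], hx, fun z hz => ?_⟩
  obtain ⟨Q, hQ⟩ := Omega.SmoothFibreDim.exists_pt hV hz
  haveI : Nontrivial Γ(X, V) := Q.nontrivial
  rw [← hQ, ← Omega.SmoothFibreDim.fibreDimAt_appLE f hU hV e Q]
  have hs : Spec.map (f.appLE U V e) = Spec.map (CommRingCat.ofHom (algebraMap Γ(Y, U) Γ(X, V))) := rfl
  rw [hs, Omega.SmoothFibreDim.fibreDimAt_spec Γ(Y, U) Γ(X, V) Q, Module.rankAtStalk_eq_finrank_of_free]
  rfl

end Groth.Agent.EquidimPt
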