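import Mathlib

/-!
Going down for quasi-finite maps onto normal domains, on schemes.
-/

set_option autoImplicit false
set_option linter.style.haveILetI false
universe u
open CategoryTheory AlgebraicGeometry TopologicalSpace Topology

namespace Groth.Agent.EquidimPt

/-- Going down for a quasi-finite domain over a normal domain. -/
theorem exists_prime_le_of_qf {A B : Type u} [CommRing A] [IsDomain A] [IsIntegrallyClosed A] [CommRing B]
    [IsDomain B] [Algebra A B] [Algebra.FiniteType A B] [Algebra.QuasiFinite A B]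
    (hinj : Function.Injective (algebraMap A B)) (Q : Ideal B) [Q.IsPrime] (p : Ideal A) [p.IsPrime]
    (hp : p ≤ Q.under A) : ∃ Q₁ : Ideal B, Q₁.IsPrime ∧ Q₁ ≤ Q ∧ Q₁.under A = p := by
  haveI : Algebra.QuasiFiniteAt A Q := inferInstance
  obtain ⟨r, hrQ, hr, hm⟩ := Algebra.zariskisMainProperty_iff.mp
    (Algebra.ZariskisMainProperty.of_finiteType (R := A) Q)
  let C := integralClosure A B
  haveI : Algebra.IsIntegral A C := integralClosure.AlgebraIsIntegral
  haveI : FaithfulSMul A C := (faithfulSMul_iff_algebraMap_injective A C).mpr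
    fun a b h => hinj (congrArg Subtype.val h)
  let qC : Ideal C := Q.comap C.val.toRingHom
  haveI hqC : qC.IsPrime := Ideal.comap_isPrime _ _
  haveI : qC.LiesOver (Q.under A) := ⟨rfl⟩
  obtain ⟨q₁, hq₁le, hq₁, hq₁over⟩ := Ideal.exists_ideal_le_liesOver_of_le (q := Q.under A) qC hp
  let r' : C := ⟨r, hr⟩
  have hr₁ : r' ∉ q₁ := fun h => hrQ (hq₁le h)
  let J : Ideal B :=
    { carrier := {b | ∃ m : ℕ, ∃ c ∈ q₁, (c : B) = r ^ m * b}
      zero_mem' := ⟨0, 0, q₁.zero_mem, by simp⟩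
      add_mem' := by
        rintro a b ⟨m, c, hc, hca⟩ ⟨m', c', hc', hcb⟩
        refine ⟨m + m', r' ^ m' * c + r' ^ m * c', q₁.add_mem (q₁.mul_mem_left _ hc) (q₁.mul_mem_left _ hc'), ?_⟩
        simp only [Subalgebra.coe_add, Subalgebra.coe_mul, Subalgebra.coe_pow, hca, hcb]
        ring
      smul_mem' := by
        rintro x b ⟨m, c, hc, hcb⟩
        obtain ⟨k, hk⟩ := hm x
        refine ⟨k + m, (⟨r ^ k * x, hk⟩ : C) * c, q₁.mul_mem_left _ hc, ?_⟩
        simp only [Subalgebra.coe_mul, hcb, smul_eq_mul]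
        ring }
  have hJ : ∀ c : C, (c : B) ∈ J ↔ c ∈ q₁ := by
    refine fun c => ⟨?_, fun h => ⟨0, c, h, by simp⟩⟩
    rintro ⟨m, c', hc', he⟩
    have : c' = r' ^ m * c := Subtype.ext (by simpa using he)
    rw [this] at hc'
    exact (hq₁.mem_or_mem hc').resolve_left fun h => hr₁ (hq₁.mem_of_pow_mem m h)
  refine ⟨J, ⟨?_, ?_⟩, ?_, ?_⟩
  · intro h
    have := (hJ 1).1 (by rw [h]; trivial)
    exact hq₁.ne_top ((Ideal.eq_top_iff_one _).2 this)
  · intro a b hab
    obtain ⟨k, hk⟩ := hm a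
    obtain ⟨l, hl⟩ := hm b
    have hmem : ((⟨r ^ k * a, hk⟩ : C) * ⟨r ^ l * b, hl⟩ : C) ∈ q₁ := (hJ _).1 (by
      show r ^ k * a * (r ^ l * b) ∈ J
      rw [mul_mul_mul_comm]
      exact J.mul_mem_left _ hab)
    exact (hq₁.mem_or_mem hmem).imp (fun h => ⟨k, _, h, rfl⟩) (fun h => ⟨l, _, h, rfl⟩)
  · rintro b ⟨m, c, hc, hcb⟩
    have h1 : (c : B) ∈ Q := hq₁le hc
    rw [hcb] at h1
    exact ((‹Q.IsPrime›).mem_or_mem h1).resolve_left fun h => hrQ ((‹Q.IsPrime›).mem_of_pow_mem m h)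
  · ext a
    rw [hq₁over.over, Ideal.mem_comap, Ideal.mem_comap]
    exact hJ (algebraMap A C a)

/-- A quasi-finite dominant morphism from an integral scheme to the spectrum of a normal domain lifts generizations. -/
theorem exists_gen_of_qf_normal {W : Scheme.{u}} [IsIntegral W] {R : CommRingCat.{u}} [IsDomain R]
    [IsIntegrallyClosed R] (g : W ⟶ Spec R) [LocallyOfFiniteType g] [LocallyQuasiFinite g]
    (hg : g (genericPoint W) = (⟨⊥, Ideal.isPrime_bot⟩ : PrimeSpectrum R)) (w : W) (p : PrimeSpectrum R)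
    (hp : (p : Spec R) ⤳ g w) : ∃ w' : W, w' ⤳ w ∧ g w' = (p : Spec R) := by
  obtain ⟨U, hU, hwU, -⟩ := exists_isAffineOpen_mem_and_subset (x := w) (U := (⊤ : W.Opens)) trivial
  haveI : Nonempty U := ⟨⟨w, hwU⟩⟩
  haveI : IsDomain Γ(W, U) := inferInstance
  obtain ⟨φ, hφ⟩ := Spec.map_surjective (hU.fromSpec ≫ g)
  have happ : ∀ P, g (hU.fromSpec P) = Spec.map φ P := fun P => by rw [hφ]; rfl
  haveI : LocallyOfFiniteType (Spec.map φ) := by rw [hφ]; infer_instance
  haveI : LocallyQuasiFinite (Spec.map φ) := by rw [hφ]; infer_instance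
  have hft : φ.hom.FiniteType := HasRingHomProperty.Spec_iff.mp ‹LocallyOfFiniteType (Spec.map φ)›
  have hqf : φ.hom.QuasiFinite := HasRingHomProperty.Spec_iff.mp ‹LocallyQuasiFinite (Spec.map φ)›
  letI := φ.hom.toAlgebra
  haveI : Algebra.FiniteType R Γ(W, U) := hft
  haveI : Algebra.QuasiFinite R Γ(W, U) := hqf
  obtain ⟨Q, hQ⟩ : w ∈ Set.range hU.fromSpec := by rw [hU.range_fromSpec]; exact hwU
  obtain ⟨G, hG⟩ : genericPoint W ∈ Set.range hU.fromSpec := by
    rw [hU.range_fromSpec]; exact (genericPoint_specializes w).mem_open U.2 hwU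
  have hinj : Function.Injective φ.hom := by
    rw [RingHom.injective_iff_ker_eq_bot, eq_bot_iff]
    intro a ha
    have h1 : Spec.map φ G = (⟨⊥, Ideal.isPrime_bot⟩ : PrimeSpectrum R) := by rw [← happ, hG, hg]
    have h2 : a ∈ (Spec.map φ G : PrimeSpectrum R).asIdeal := by
      show φ.hom a ∈ G.asIdeal
      rw [RingHom.mem_ker.1 ha]
      exact zero_mem _
    rw [h1] at h2
    exact h2
  have hle : p.asIdeal ≤ Q.asIdeal.comap φ.hom := by
    rw [← hQ, happ] at hp
    exact (PrimeSpectrum.le_iff_specializes p _).mpr hp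
  obtain ⟨Q₁, hQ₁, hle₁, hover⟩ := exists_prime_le_of_qf (A := R) (B := Γ(W, U)) hinj Q.asIdeal p.asIdeal hle
  refine ⟨hU.fromSpec ⟨Q₁, hQ₁⟩, ?_, ?_⟩
  · rw [← hQ]
    exact ((PrimeSpectrum.le_iff_specializes (⟨Q₁, hQ₁⟩ : PrimeSpectrum Γ(W, U)) Q).mp hle₁).map hU.fromSpec.continuous
  · rw [happ]
    exact PrimeSpectrum.ext hover

end Groth.Agent.EquidimPt
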