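import Groth.Agent.EquidimPt.Basic
import Groth.Agent.SecDim.DimConstr
import Groth.Agent.ConstrLib.Basic

/-! The locus of fibre dimension at most `n` is retrocompact. -/

set_option autoImplicit false
set_option linter.style.haveILetI false
universe u
open CategoryTheory AlgebraicGeometry Limits Topology TopologicalSpace

namespace Groth.Agent.EquidimPt

variable {X Y : Scheme.{u}}

theorem isCompact_inter_le (f : X ⟶ Y) [LocallyOfFinitePresentation f] (n : ℕ) {W : X.Opens} (hW : IsAffineOpen W)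
    {V : Y.Opens} (hV : IsAffineOpen V) (e : W ≤ f ⁻¹ᵁ V) :
    IsCompact ((W : Set X) ∩ {x | FlatMor.fibreDimAt f x ≤ n}) := by
  haveI : IsAffine W.toScheme := hW
  haveI : IsAffine V.toScheme := hV
  let g := f.resLE V W e
  have hg : g ≫ V.ι = W.ι ≫ f := f.resLE_comp_ι e
  haveI : LocallyOfFinitePresentation g := inferInstance
  have hd : ∀ w : W.toScheme, FlatMor.fibreDimAt g w = FlatMor.fibreDimAt f (W.ι w) := fun w =>
    AlgSpD.fibreDimAt_inv W.ι V.ι g f hg w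
  have hS : {w : W.toScheme | FlatMor.fibreDimAt g w ≤ n} =
      {w : W.toScheme | ((n + 1 : ℕ) : WithBot ℕ∞) ≤ FlatMor.fibreDimAt g w}ᶜ := by
    ext w
    obtain ⟨a, b, -, -, -, -, hw⟩ := fibre_facts g w
    rw [Set.mem_compl_iff, Set.mem_ofPred_eq, Set.mem_ofPred_eq, hw, Nat.cast_le, Nat.cast_le]
    omega
  have hc : IsConstructible {w : W.toScheme | FlatMor.fibreDimAt g w ≤ n} := by
    rw [hS, isConstructible_compl]
    exact (SecDim.isLocallyConstructible_fibreDim_ge g (n + 1)).isConstructible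
  have h1 := (ConstrLib.isRetrocompact_of_isConstructible hc).isCompact
  have h2 : (W : Set X) ∩ {x | FlatMor.fibreDimAt f x ≤ n} = W.ι '' {w : W.toScheme | FlatMor.fibreDimAt g w ≤ n} := by
    ext x
    constructor
    · rintro ⟨hx, hle⟩
      exact ⟨⟨x, hx⟩, (hd ⟨x, hx⟩).trans_le hle, rfl⟩
    · rintro ⟨w, hw, rfl⟩
      exact ⟨w.2, (hd w).symm.trans_le hw⟩
  rw [h2]
  exact h1.image W.ι.continuous

theorem isRetrocompact_le (f : X ⟶ Y) [LocallyOfFinitePresentation f] (n : ℕ) :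
    IsRetrocompact {x | FlatMor.fibreDimAt f x ≤ n} := by
  intro K hKc hKo
  have key : ∀ x ∈ K, ∃ W : X.Opens, x ∈ W ∧ (W : Set X) ⊆ K ∧
      IsCompact ((W : Set X) ∩ {x | FlatMor.fibreDimAt f x ≤ n}) := fun x hx => by
    obtain ⟨V, hV, hxV, -⟩ := exists_isAffineOpen_mem_and_subset (x := f x) (U := (⊤ : Y.Opens)) trivial
    obtain ⟨W, hW, hxW, hWK⟩ := exists_isAffineOpen_mem_and_subset (x := x)
      (U := f ⁻¹ᵁ V ⊓ ⟨K, hKo⟩) ⟨hxV, hx⟩
    exact ⟨W, hxW, fun z hz => (hWK hz).2, isCompact_inter_le f n hW hV fun z hz => (hWK hz).1⟩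
  choose W hxW hWK hWc using key
  obtain ⟨t, ht⟩ := hKc.elim_finite_subcover (fun x : K => (W x.1 x.2 : Set X)) (fun x => (W x.1 x.2).isOpen)
    fun x hx => Set.mem_iUnion.2 ⟨⟨x, hx⟩, hxW x hx⟩
  have heq : {x | FlatMor.fibreDimAt f x ≤ n} ∩ K =
      ⋃ x ∈ t, ((W x.1 x.2 : Set X) ∩ {x | FlatMor.fibreDimAt f x ≤ n}) := by
    ext z
    simp only [Set.mem_inter_iff, Set.mem_iUnion]
    constructor
    · rintro ⟨h1, h2⟩
      obtain ⟨x, hx⟩ := Set.mem_iUnion.1 (ht h2)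
      obtain ⟨hxt, hzx⟩ := Set.mem_iUnion.1 hx
      exact ⟨x, hxt, hzx, h1⟩
    · rintro ⟨x, -, hz, h1⟩
      exact ⟨h1, hWK _ _ hz⟩
  rw [heq]
  exact t.finite_toSet.isCompact_biUnion fun x _ => hWc x.1 x.2

end Groth.Agent.EquidimPt
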