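import Groth.Agent.EquidimPt.Component
import Groth.Agent.EquidimPt.QfNormal
import Groth.Agent.S3386
import Groth.Agent.GUGoingDown.Basic
import Groth.Agent.GrpScheme.FlatFib.Scheme
import Groth.Agent.SecDim.Open

/-!
Universal openness of quasi-finite maps to affine space (SGA 3 / EGA IV 14.4).
-/

set_option autoImplicit false
set_option linter.style.haveILetI false
universe u
open CategoryTheory AlgebraicGeometry Limits Topology TopologicalSpace

noncomputable section

namespace Groth.Agent.EquidimPt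

/-- Generizations in a fibre lift along a base change. -/
theorem exists_gen_fibre_baseChange {X Y X' Y' : Scheme.{u}} {f : X ⟶ Y} {g : Y' ⟶ Y} {g' : X' ⟶ X} {f' : X' ⟶ Y'}
    (hsq : IsPullback g' f' f g) (w : X') {z : X} (hz : z ⤳ g' w) (hfz : f z = f (g' w)) :
    ∃ z', z' ⤳ w ∧ f' z' = f' w ∧ g' z' = z := by
  let c := f' w
  let ι' := f'.fiberι c
  have hs : g c = f (g' w) := by
    show g (f' w) = _
    rw [← Scheme.Hom.comp_apply, ← hsq.w, Scheme.Hom.comp_apply]
  have h0 : IsPullback (ι' ≫ g') (f'.fiberToSpecResidueField c) f (Y'.fromSpecResidueField c ≫ g) :=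
    (IsPullback.of_hasPullback f' (Y'.fromSpecResidueField c)).paste_horiz hsq
  rw [← Scheme.Hom.SpecMap_residueFieldMap_fromSpecResidueField] at h0
  have h1 := IsPullback.of_right' h0 (IsPullback.of_hasPullback f (Y.fromSpecResidueField (g c)))
  let b : f'.fiber c ⟶ f.fiber (g c) := (IsPullback.of_hasPullback f (Y.fromSpecResidueField (g c))).lift (ι' ≫ g')
    (f'.fiberToSpecResidueField c ≫ Spec.map (g.residueFieldMap c)) (by simpa using h0.w)
  have hb : b ≫ f.fiberι (g c) = ι' ≫ g' := IsPullback.lift_fst _ _ _ _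
  haveI : Flat (Spec.map (g.residueFieldMap c)) := inferInstance
  haveI : Flat b := MorphismProperty.of_isPullback h1.flip inferInstance
  obtain ⟨zf, hzf⟩ : z ∈ Set.range (f.fiberι (g c)) := by
    rw [f.range_fiberι]; exact hfz.trans hs.symm
  obtain ⟨wf, hwf⟩ : w ∈ Set.range ι' := by rw [f'.range_fiberι]; rfl
  have hbw : f.fiberι (g c) (b wf) = g' w := by
    rw [← Scheme.Hom.comp_apply, hb, Scheme.Hom.comp_apply, hwf]
  have hsp : zf ⤳ b wf := (f.fiberι (g c)).isEmbedding.specializes_iff.1 (by rw [hzf, hbw]; exact hz)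
  obtain ⟨z', hz'w, hz'⟩ := Flat.generalizingMap b hsp
  refine ⟨ι' z', hwf ▸ hz'w.map ι'.continuous, (f'.range_fiberι c).le ⟨z', rfl⟩, ?_⟩
  rw [← Scheme.Hom.comp_apply, ← hb, Scheme.Hom.comp_apply, hz', hzf]

variable {X S : Scheme.{u}} {n : ℕ}

/-- Generizations over a valuation ring. -/
theorem exists_gen_over_valuation (f : X ⟶ S) [LocallyOfFiniteType f] (u : X ⟶ 𝔸(ULift.{u} (Fin n); S))
    [LocallyOfFiniteType u] [LocallyQuasiFinite u] (hu : u ≫ (𝔸(ULift.{u} (Fin n); S) ↘ S) = f)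
    {z x : X} (hzx : z ⤳ x) (hfz : f z = f x) (hzmax : ∀ w, f w = f z → w ⤳ z → w = z)
    (hzdim : FlatMor.fibreDimAt f z = n) (hopen : EGA43.IsUnivOpenAt f z)
    (V : Type u) [CommRing V] [IsDomain V] [IsIntegrallyClosed V] [IsLocalRing V]
    (b : Spec (CommRingCat.of V) ⟶ 𝔸(ULift.{u} (Fin n); S)) {P : Scheme.{u}}
    {p₁ : P ⟶ X} {p₂ : P ⟶ Spec (CommRingCat.of V)} (hP : IsPullback p₁ p₂ u b) (y : P) (hy : p₁ y = x)
    (hyc : p₂ y = IsLocalRing.closedPoint V) :
    ∃ y' : P, y' ⤳ y ∧ p₂ y' = (⟨⊥, Ideal.isPrime_bot⟩ : PrimeSpectrum V) := by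
  let T := Spec (CommRingCat.of V)
  let η : T := (⟨⊥, Ideal.isPrime_bot⟩ : PrimeSpectrum V)
  let pr := 𝔸(ULift.{u} (Fin n); S) ↘ S
  let β := b ≫ pr
  let AV := 𝔸(ULift.{u} (Fin n); T)
  let prV : AV ⟶ T := AV ↘ T
  let m : AV ⟶ 𝔸(ULift.{u} (Fin n); S) := AffineSpace.map (ULift.{u} (Fin n)) β
  have hA : IsPullback m prV pr β := AffineSpace.isPullback_map β
  -- the base change of `u`
  let XV := pullback u m
  let uV : XV ⟶ AV := pullback.snd u m
  let q : XV ⟶ X := pullback.fst u m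
  have hq : IsPullback q uV u m := IsPullback.of_hasPullback u m
  let fV : XV ⟶ T := uV ≫ prV
  have hfV : IsPullback q fV f β := by rw [← hu]; exact hq.paste_vert hA
  haveI : LocallyOfFiniteType uV := inferInstance
  haveI : LocallyQuasiFinite uV := inferInstance
  haveI : LocallyOfFiniteType fV := MorphismProperty.of_isPullback hfV inferInstance
  -- the section
  let σ : T ⟶ AV := hA.lift b (𝟙 T) (by rw [Category.id_comp])
  have hσm : σ ≫ m = b := hA.lift_fst _ _ _
  have hσp : σ ≫ prV = 𝟙 T := hA.lift_snd _ _ _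
  let j : P ⟶ XV := hq.lift p₁ (p₂ ≫ σ) (by rw [Category.assoc, hσm]; exact hP.w)
  have hjq : j ≫ q = p₁ := hq.lift_fst _ _ _
  have hju : j ≫ uV = p₂ ≫ σ := hq.lift_snd _ _ _
  have hj : IsPullback j p₂ uV σ := IsPullback.of_right (by rw [hjq, hσm]; exact hP) hju hq
  haveI : IsClosedImmersion σ := by
    haveI : IsClosedImmersion (σ ≫ prV) := by rw [hσp]; infer_instance
    exact IsClosedImmersion.of_comp σ prV
  haveI : IsClosedImmersion j := MorphismProperty.of_isPullback hj.flip inferInstance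
  let w := j y
  have hqw : q w = x := by rw [← Scheme.Hom.comp_apply, hjq, hy]
  have hfw : fV w = IsLocalRing.closedPoint V := by
    rw [Scheme.Hom.comp_apply, ← Scheme.Hom.comp_apply j, hju, Scheme.Hom.comp_apply,
      ← Scheme.Hom.comp_apply σ, hσp, hyc]
    rfl
  -- the component of the special fibre over `z`
  obtain ⟨z'', hz''w, hfz'', hqz''⟩ := exists_gen_fibre_baseChange hfV w (z := z) (hqw.symm ▸ hzx)
    (by rw [hqw]; exact hfz)
  obtain ⟨c, hcz, hfc, hcmax, -, -, -, -, -, -, -, -⟩ := FibSemi.exists_max_fibre fV z''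
  have hqc : q c = z := by
    refine hzmax _ ?_ (hqz'' ▸ hcz.map q.continuous)
    have hcomm : ∀ v, f (q v) = β (fV v) := fun v => by
      rw [← Scheme.Hom.comp_apply, hfV.w, Scheme.Hom.comp_apply]
    rw [hcomm, hfc, ← hcomm, hqz'']
  have hcdim : FlatMor.fibreDimAt fV c = n := by
    rw [AlgSpD.fibreDimAt_of_isPullback f hfV c, hqc, hzdim]
  have huo : EGA43.IsUnivOpenAt fV c := OpenAt.isUnivOpenAt_of_isPullback hopen hfV c hqc
  have hηc : η ⤳ fV c :=
    (PrimeSpectrum.le_iff_specializes (⟨⊥, Ideal.isPrime_bot⟩ : PrimeSpectrum V) _).mp bot_le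
  obtain ⟨zη, hfzη, hzηc, hdim⟩ := exists_gen_dim_specializes fV huo
    (fun v hv hvc => hcmax v (hv.trans hfc) hvc) hηc
  rw [hcdim] at hdim
  obtain ⟨d, hdz, hfd, hdmax, -, -, e', -, -, hfd', hd, -⟩ := FibSemi.exists_max_fibre fV zη
  have hηmax : ∀ t : T, t ⤳ η → t = η := fun t ht =>
    PrimeSpectrum.ext (le_bot_iff.mp ((PrimeSpectrum.le_iff_specializes (t : PrimeSpectrum V) ⟨⊥, Ideal.isPrime_bot⟩).mpr ht))
  have hfdη : fV d = η := hfd.trans hfzη
  have hdMax : FlatOpen.EquiDim.Max d := fun v hv => by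
    refine hdmax v ?_ hv
    rw [hfzη]
    exact hηmax _ (hfdη ▸ hv.map fV.continuous)
  -- its image is the generic point of affine space
  obtain ⟨t, ht⟩ := S3386.exists_trdeg prV (uV d)
  have htr := S3386.trdeg_comp uV prV d ht
  obtain ⟨nd, td, -, -, htd, htrd, -⟩ := fibre_facts fV d
  have hte : t = td := Nat.cast_inj.mp (htr.symm.trans htrd)
  have hnt : n ≤ t := by
    have h1 := hdim
    rw [hfd', ← hd, htd] at h1
    exact hte ▸ Nat.cast_le.mp h1
  have htn := S3386.trdeg_le prV (uV d) (S3386.fibreDimAt_affineSpace n T _).le ht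
  obtain rfl : t = n := le_antisymm htn hnt
  have hF := S3386.fMax_of_trdeg prV (uV d) (fun v => (S3386.fibreDimAt_affineSpace t T v).le) ht
  have hgmax : ∀ v : AV, v ⤳ uV d → v = uV d := fun v hv =>
    hF v hv ((hηmax _ (show prV v ⤳ η from hfdη ▸ hv.map prV.continuous)).trans hfdη.symm)
  -- restrict to the component
  let R : CommRingCat.{u} := CommRingCat.of (MvPolynomial (ULift.{u} (Fin t)) V)
  haveI : IsIntegrallyClosed R := GUGoingDown.isIntegrallyClosed_mvPolynomial V _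
  haveI : IsDomain R := inferInstanceAs (IsDomain (MvPolynomial (ULift.{u} (Fin t)) V))
  let e : AV ≅ Spec R := AffineSpace.SpecIso (ULift.{u} (Fin t)) (CommRingCat.of V)
  let i := (Scheme.IdealSheafData.vanishingIdeal (⟨closure {d}, isClosed_closure⟩ : Closeds XV)).subschemeι
  let W := (Scheme.IdealSheafData.vanishingIdeal (⟨closure {d}, isClosed_closure⟩ : Closeds XV)).subscheme
  have hr : Set.range i = closure {d} := RedSub.range_vanishingIdeal_subschemeι _
  obtain ⟨d', hd'⟩ : d ∈ Set.range i := hr.ge (subset_closure rfl)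
  have hgen : ∀ v : W, d' ⤳ v := fun v => i.isEmbedding.specializes_iff.1
    (by rw [hd', specializes_iff_mem_closure]; exact hr.le (Set.mem_range_self v))
  haveI : IrreducibleSpace W := by
    refine (irreducibleSpace_def _).mpr ?_
    show IsIrreducible (Set.univ : Set W)
    rw [show (Set.univ : Set W) = closure {d'} from
      (Set.eq_univ_of_forall fun v => specializes_iff_mem_closure.1 (hgen v)).symm]
    exact isIrreducible_singleton.closure
  haveI : IsReduced W := RedSub.isReduced_vanishingIdeal _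
  haveI : IsIntegral W := isIntegral_of_irreducibleSpace_of_isReduced _
  have hgW : genericPoint W = d' := ((hgen _).antisymm (genericPoint_specializes d')).symm.eq
  let g : W ⟶ Spec R := i ≫ uV ≫ e.hom
  haveI : LocallyOfFiniteType g := inferInstance
  haveI : LocallyQuasiFinite g := inferInstance
  have hg : g (genericPoint W) = (⟨⊥, Ideal.isPrime_bot⟩ : PrimeSpectrum R) := by
    rw [hgW]
    show e.hom (uV (i d')) = _
    rw [hd']
    obtain ⟨v, hv⟩ := e.hom.homeomorph.surjective (⟨⊥, Ideal.isPrime_bot⟩ : PrimeSpectrum R)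
    have hv' : v ⤳ uV d := e.hom.isOpenEmbedding.isEmbedding.specializes_iff.1 (by
      show e.hom.homeomorph v ⤳ _
      rw [hv]
      exact (PrimeSpectrum.le_iff_specializes (⟨⊥, Ideal.isPrime_bot⟩ : PrimeSpectrum R) _).mp bot_le)
    rw [← hgmax v hv']
    exact hv
  obtain ⟨w', hw'⟩ : w ∈ Set.range i := hr.ge (specializes_iff_mem_closure.1 (hdz.trans (hzηc.trans (hcz.trans hz''w))))
  have hσ : σ η ⤳ uV w := by
    rw [← Scheme.Hom.comp_apply j, hju, Scheme.Hom.comp_apply, hyc]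
    exact ((PrimeSpectrum.le_iff_specializes (⟨⊥, Ideal.isPrime_bot⟩ : PrimeSpectrum V) _).mp bot_le).map σ.continuous
  obtain ⟨v', hv'w, hgv'⟩ := exists_gen_of_qf_normal g hg w' (e.hom (σ η) : PrimeSpectrum R) (by
    show e.hom (σ η) ⤳ e.hom (uV (i w'))
    rw [hw']
    exact hσ.map e.hom.continuous)
  have huv : uV (i v') = σ η := e.hom.isOpenEmbedding.injective hgv'
  obtain ⟨y', hy'1, hy'2⟩ := Scheme.exists_preimage_of_isPullback hj (i v') η huv
  refine ⟨y', j.isEmbedding.specializes_iff.1 ?_, hy'2⟩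
  rw [hy'1, show j y = i w' from hw'.symm]
  exact hv'w.map i.continuous

/-- A quasi-finite map to affine space is universally open at a point, when the structure map is
universally open at the generic point of a component of full dimension through it. -/
theorem isUnivOpenAt_affineSpace (f : X ⟶ S) [LocallyOfFinitePresentation f]
    (u : X ⟶ 𝔸(ULift.{u} (Fin n); S)) [LocallyQuasiFinite u]
    (hu : u ≫ (𝔸(ULift.{u} (Fin n); S) ↘ S) = f)
    {z x : X} (hzx : z ⤳ x) (hfz : f z = f x) (hzmax : ∀ w, f w = f z → w ⤳ z → w = z)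
    (hzdim : FlatMor.fibreDimAt f z = n) (hopen : EGA43.IsUnivOpenAt f z) : EGA43.IsUnivOpenAt u x := by
  haveI : LocallyOfFinitePresentation u := by
    haveI : LocallyOfFinitePresentation (u ≫ (𝔸(ULift.{u} (Fin n); S) ↘ S)) := by rw [hu]; infer_instance
    exact GrpScheme.FlatFib.locallyOfFinitePresentation_of_comp u (𝔸(ULift.{u} (Fin n); S) ↘ S)
  intro T g x' hx' N hN
  let p := pullback.snd u g
  obtain ⟨T₀, hT₀, hpT, -⟩ := exists_isAffineOpen_mem_and_subset (x := p x') (U := (⊤ : T.Opens)) trivial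
  obtain ⟨O, hON, hO, hxO⟩ := mem_nhds_iff.mp hN
  obtain ⟨U, hU, hxU, hUO⟩ := exists_isAffineOpen_mem_and_subset (x := x') (U := p ⁻¹ᵁ T₀ ⊓ ⟨O, hO⟩) ⟨hpT, hxO⟩
  haveI : IsAffine U.toScheme := hU
  haveI : IsAffine T₀.toScheme := hT₀
  let p₀ := p.resLE T₀ U fun v hv => (hUO hv).1
  haveI : LocallyOfFinitePresentation p₀ := inferInstance
  have hp₀ : p₀ ≫ T₀.ι = U.ι ≫ p := p.resLE_comp_ι _
  have hE : IsLocallyConstructible (Set.range p₀) := by
    rw [← Set.image_univ]
    exact p₀.isLocallyConstructible_image IsConstructible.univ.isLocallyConstructible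
  let x₀ : U.toScheme := ⟨x', hxU⟩
  have hnhds : Set.range p₀ ∈ nhds (p₀ x₀) := by
    refine SecDim.mem_nhds_of_generizations hE fun t ht => ?_
    obtain ⟨Q₁, hQ₁⟩ : T₀.ι (p₀ x₀) ∈ Set.range hT₀.fromSpec := by
      rw [hT₀.range_fromSpec]; exact (p₀ x₀).2
    obtain ⟨Q₀, hQ₀⟩ : T₀.ι t ∈ Set.range hT₀.fromSpec := by rw [hT₀.range_fromSpec]; exact t.2
    have hle : Q₀.asIdeal ≤ Q₁.asIdeal := (PrimeSpectrum.le_iff_specializes Q₀ Q₁).mpr
      (hT₀.fromSpec.isOpenEmbedding.isEmbedding.specializes_iff.mp (by rw [hQ₀, hQ₁]; exact ht.map T₀.ι.continuous))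
    let K := Q₀.asIdeal.ResidueField
    let gK : Γ(T, T₀) →+* K := algebraMap Γ(T, T₀) K
    have hgk : RingHom.ker gK = Q₀.asIdeal := Ideal.ker_algebraMap_residueField _
    obtain ⟨V, g', hg', hker⟩ := EtaPtLib.exists_valuationSubring gK Q₁ (le_of_eq_of_le hgk hle)
    let b₀ : Spec (CommRingCat.of V) ⟶ T := Spec.map (CommRingCat.ofHom g') ≫ hT₀.fromSpec
    have hbc : b₀ (IsLocalRing.closedPoint V) = p x' := by
      show hT₀.fromSpec (PrimeSpectrum.comap g' (IsLocalRing.closedPoint V)) = _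
      have h1 : PrimeSpectrum.comap g' (IsLocalRing.closedPoint V) = Q₁ := PrimeSpectrum.ext (by
        show (IsLocalRing.maximalIdeal V).comap g' = Q₁.asIdeal
        rw [← hker, ← RingHom.comap_ker, IsLocalRing.ker_residue])
      rw [h1, hQ₁, ← Scheme.Hom.comp_apply, hp₀]
      rfl
    have hbη : b₀ (⟨⊥, Ideal.isPrime_bot⟩ : PrimeSpectrum V) = T₀.ι t := by
      rw [← hQ₀]
      show hT₀.fromSpec (PrimeSpectrum.comap g' ⟨⊥, Ideal.isPrime_bot⟩) = _
      refine congrArg hT₀.fromSpec (PrimeSpectrum.ext ?_)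
      show (⊥ : Ideal V).comap g' = Q₀.asIdeal
      rw [← RingHom.ker_eq_comap_bot]
      refine Eq.trans ?_ hgk
      rw [← hg']
      exact (RingHom.ker_comp_of_injective g' Subtype.val_injective).symm
    have hsq := (IsPullback.of_hasPullback p b₀).paste_horiz (IsPullback.of_hasPullback u g)
    obtain ⟨y, hy₁, hy₂⟩ := Scheme.exists_preimage_of_isPullback (IsPullback.of_hasPullback p b₀) x'
      (IsLocalRing.closedPoint V) hbc.symm
    obtain ⟨y', hy'y, hy'η⟩ := exists_gen_over_valuation f u hu hzx hfz hzmax hzdim hopen V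
      (b₀ ≫ g) hsq y (by rw [Scheme.Hom.comp_apply, hy₁]; exact hx') hy₂
    have hgen : pullback.fst p b₀ y' ⤳ x' := hy₁ ▸ hy'y.map (pullback.fst p b₀).continuous
    refine ⟨⟨_, hgen.mem_open U.2 hxU⟩, T₀.ι.isOpenEmbedding.injective ?_⟩
    rw [← Scheme.Hom.comp_apply, hp₀, Scheme.Hom.comp_apply]
    show p (pullback.fst p b₀ y') = _
    rw [← Scheme.Hom.comp_apply, pullback.condition, Scheme.Hom.comp_apply, hy'η, hbη]
  have hsub : T₀.ι '' Set.range p₀ ⊆ p '' N := by
    rintro _ ⟨_, ⟨v, rfl⟩, rfl⟩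
    exact ⟨U.ι v, hON (hUO v.2).2, by rw [← Scheme.Hom.comp_apply, ← hp₀]; rfl⟩
  have h1 := T₀.ι.isOpenMap.image_mem_nhds hnhds
  rw [show T₀.ι (p₀ x₀) = p x' by rw [← Scheme.Hom.comp_apply, hp₀]; rfl] at h1
  exact Filter.mem_of_superset h1 hsub

end Groth.Agent.EquidimPt
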